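import Cfsg.Agent.Lib.OrderBlocks.Section
import Cfsg.Agent.Lib.BrauerTuan.Rational

/-!
# Values of characters: rationality, congruences and the eigenvalue `-1`
-/

set_option autoImplicit false
set_option linter.unusedSectionVars false
set_option linter.style.haveILetI false

namespace CfsgLib.OrderBlocks

open Cfsg Module
open scoped ComplexConjugate CfsgLib.Char
open CfsgLib CfsgLib.BrauerTuan
open scoped _root_.Classical

universe u

variable {G : Type u} [Group G] [Fintype G]

theorem exists_int_of_fix {φ : G → ℂ} (hφ : IsCharacter G φ) {g : G}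
    (hfix : ∀ k : ℕ, k.Coprime (Nat.card G) → φ (g ^ k) = φ g) : ∃ a : ℤ, φ g = a := by
  obtain ⟨q, hq⟩ := (Char.rat_value_iff hφ g).mpr hfix
  obtain ⟨a, ha⟩ := Char.exists_int_of_isIntegral_rat (q := q) (hq ▸ Char.isIntegral_value hφ g)
  exact ⟨a, by rw [hq, ha]; simp⟩

/-- A prime-to-order power of a character has the same degree. -/
theorem exists_twist (χ : IrrCharacter G) {k : ℕ} (hk : k.Coprime (Nat.card G)) :
    ∃ ξ : IrrCharacter G, deg ξ = deg χ ∧ ∀ g, (ξ : G → ℂ) g = (χ : G → ℂ) (g ^ k) :=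
  ⟨⟨_, Char.isIrrCharacter_pow hk χ.2⟩, by simp [deg, charDegree, one_pow], fun g => rfl⟩

/-- If all characters of the same degree agree at `g`, the value is an integer. -/
theorem exists_int_value_of_agree {χ : IrrCharacter G} {g : G}
    (h : ∀ ξ : IrrCharacter G, deg ξ = deg χ → (ξ : G → ℂ) g = (χ : G → ℂ) g) :
    ∃ a : ℤ, (χ : G → ℂ) g = a :=
  exists_int_of_fix (Char.isCharacter_of_isIrr χ.2) fun _ hk => by
    obtain ⟨ξ, hd, hv⟩ := exists_twist χ hk
    rw [← hv, h ξ hd]

/-- `(∑ xᵢ) ^ p` and `∑ xᵢ ^ p` agree modulo `p`. -/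
theorem exists_sum_pow_eq {R : Type*} [CommRing R] {p : ℕ} (hp : p.Prime) {ι : Type*} (s : Finset ι) (x : ι → R) :
    ∃ r, (∑ i ∈ s, x i) ^ p = ∑ i ∈ s, x i ^ p + p * r := by
  induction s using Finset.induction_on with
  | empty => exact ⟨0, by simp [hp.ne_zero]⟩
  | insert a s ha ih =>
    obtain ⟨r, hr⟩ := ih
    obtain ⟨r', hr'⟩ := exists_add_pow_prime_eq hp (x a) (∑ i ∈ s, x i)
    rw [Finset.sum_insert ha, Finset.sum_insert ha]
    refine ⟨r + x a * (∑ i ∈ s, x i) * r', ?_⟩
    rw [hr', hr]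
    ring

/-- An integer value at `g` is congruent modulo `p` to the value at `g ^ p`. -/
theorem pow_congr {φ : G → ℂ} (hφ : IsCharacter G φ) {p : ℕ} (hp : p.Prime) {g : G} {a b : ℤ}
    (ha : φ g = a) (hb : φ (g ^ p) = b) : (p : ℤ) ∣ a - b := by
  haveI := Fact.mk hp
  obtain ⟨m, ρ, rfl⟩ := hφ
  obtain ⟨μ, hμ, hk⟩ := Char.character_pow_eq_sum ρ g
  have hint : ∀ i, μ i ∈ integralClosure ℤ ℂ := fun i =>
    IsIntegral.of_pow (orderOf_pos g) (by rw [hμ i]; exact isIntegral_one)
  obtain ⟨r, hr⟩ := exists_sum_pow_eq hp (R := integralClosure ℤ ℂ) Finset.univ fun i => ⟨μ i, hint i⟩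
  have hr' := congrArg Subtype.val hr
  push_cast at hr'
  have h1 := hk 1
  simp only [pow_one] at h1
  rw [ha] at h1
  rw [← h1, ← hk p, hb] at hr'
  obtain ⟨z, hz⟩ := Char.exists_int_of_isIntegral_rat (q := ((a : ℚ) ^ p - b) / p) (by
    have e : ((((a : ℚ) ^ p - b) / p : ℚ) : ℂ) = (r : ℂ) := by
      have hp0 : (p : ℂ) ≠ 0 := Nat.cast_ne_zero.mpr hp.ne_zero
      push_cast
      rw [div_eq_iff hp0, hr']
      ring
    rw [e]
    exact r.2)
  have hdiv : (p : ℤ) ∣ a ^ p - b := ⟨z, by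
    rw [div_eq_iff (Nat.cast_ne_zero.mpr hp.ne_zero)] at hz
    have : ((a ^ p - b : ℤ) : ℚ) = (((p : ℤ) * z : ℤ) : ℚ) := by push_cast; linarith
    exact_mod_cast this⟩
  rw [← ZMod.intCast_zmod_eq_zero_iff_dvd] at hdiv ⊢
  push_cast at hdiv ⊢
  rwa [ZMod.pow_card] at hdiv

/-- The multiplicity of the eigenvalue `-1` is even for real values and determinant `1`. -/
theorem exists_even_minus_one [IsSimpleGroup G] (hG : ¬ IsMulCommutative G) {φ : G → ℂ} (hφ : IsCharacter G φ)
    {g : G} {m : ℕ} (hm : m ≠ 0) (hm2 : Even m) (hg : g ^ m = 1) (hreal : ∀ l, conj (φ (g ^ l)) = φ (g ^ l)) :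
    ∃ r : ℕ, ∑ l ∈ Finset.range m, (-1 : ℂ) ^ l * φ (g ^ l) = (m : ℂ) * ((2 * r : ℕ) : ℂ) := by
  obtain ⟨k, ρ, rfl⟩ := hφ
  let D : G →* ℂˣ := (LinearMap.det.comp ρ).toHomUnits
  have hD : LinearMap.det (ρ g) = 1 := congrArg Units.val (SmallOrder.map_eq_one_of_comm hG D g)
  obtain ⟨b, μ, hμ, hb⟩ := Char.exists_eigenBasis_of_pow_eq_one (ρ g) hm (by rw [← map_pow, hg, map_one])
  have hdet : LinearMap.det (ρ g) = ∏ i, μ i := by
    rw [← LinearMap.det_toMatrix b, show LinearMap.toMatrix b b (ρ g) = Matrix.diagonal μ from ?_,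
      Matrix.det_diagonal]
    ext i j
    rw [LinearMap.toMatrix_apply, hb, map_smul, Basis.repr_self, Finsupp.smul_apply, Matrix.diagonal_apply]
    by_cases h : i = j
    · subst h; simp
    · simp [h, Ne.symm h]
  have htr : ∀ l : ℕ, ρ.character (g ^ l) = ∑ i, μ i ^ l := by
    intro l
    refine Char.trace_eq_sum_of_diag b _ _ fun i => ?_
    induction l with
    | zero => simp
    | succ l ih => rw [pow_succ', map_mul, Module.End.mul_apply, ih, map_smul, hb, smul_smul, pow_succ]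
  obtain ⟨N, hN⟩ : ∃ N : ℂ → ℕ, N = fun w => (Finset.univ.filter fun i => μ i = w).card := ⟨_, rfl⟩
  have key : ∀ w : ℂ, w ^ m = 1 → ∑ l ∈ Finset.range m, w⁻¹ ^ l * ρ.character (g ^ l) = (m : ℂ) * N w := by
    intro w hw
    have hw0 : w ≠ 0 := fun e => by rw [e, zero_pow hm] at hw; exact zero_ne_one hw
    simp only [htr, Finset.mul_sum, ← mul_pow]
    rw [Finset.sum_comm, Finset.sum_congr rfl (g := fun i => if μ i = w then (m : ℂ) else 0) fun i _ => ?_]
    · rw [← Finset.sum_filter, Finset.sum_const, nsmul_eq_mul, hN]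
      ring
    · split_ifs with h
      · simp [h, hw0]
      · refine (geom_sum_eq (fun e => h ?_) m).trans (by rw [mul_pow, inv_pow, hw, hμ]; simp)
        rwa [inv_mul_eq_one₀ hw0, eq_comm] at e
  have hconj : ∀ w : ℂ, w ^ m = 1 → N (conj w) = N w := by
    intro w hw
    have h1 := congrArg conj (key w hw)
    rw [map_sum] at h1
    simp only [map_mul, map_pow, map_inv₀, hreal, map_natCast] at h1
    rw [key (conj w) (by rw [← map_pow, hw, map_one])] at h1
    exact_mod_cast mul_left_cancel₀ (Nat.cast_ne_zero.mpr hm) h1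
  have hone : ∀ w ∈ Finset.univ.image μ, w ^ m = 1 := fun w hw => by
    obtain ⟨i, -, rfl⟩ := Finset.mem_image.mp hw
    exact hμ i
  have hpos : ∀ w, w ∈ Finset.univ.image μ ↔ 0 < N w := fun w => by
    simp [hN, Finset.card_pos, Finset.Nonempty]
  have hprod : ∏ i, μ i = (-1 : ℂ) ^ N (-1) := by
    have hfib : ∏ i, μ i = ∏ w ∈ Finset.univ.image μ, w ^ N w := by
      rw [← Finset.prod_fiberwise_of_maps_to (g := μ) (t := Finset.univ.image μ)
        (fun i hi => Finset.mem_image_of_mem _ hi) (fun i => μ i)]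
      refine Finset.prod_congr rfl fun w _ => ?_
      rw [Finset.prod_congr rfl (g := fun _ => w) fun i hi => (Finset.mem_filter.mp hi).2, Finset.prod_const, hN]
    rw [hfib, ← Finset.prod_filter_mul_prod_filter_not _ (fun w => conj w = w)]
    have h2 : ∏ w ∈ (Finset.univ.image μ).filter (fun w => ¬ conj w = w), w ^ N w = 1 := by
      refine Finset.prod_involution (fun w _ => conj w) (fun w hw => ?_) (fun w hw _ => (Finset.mem_filter.mp hw).2)
        (fun w hw => ?_) (fun w _ => Complex.conj_conj w)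
      · have hw1 := hone w (Finset.mem_filter.mp hw).1
        rw [hconj w hw1, ← mul_pow, ← Complex.inv_eq_conj (Complex.norm_eq_one_of_pow_eq_one hw1 hm),
          mul_inv_cancel₀ (fun e => by rw [e, zero_pow hm] at hw1; exact zero_ne_one hw1), one_pow]
      · obtain ⟨hwi, hwc⟩ := Finset.mem_filter.mp hw
        refine Finset.mem_filter.mpr ⟨(hpos _).mpr ?_, fun e => hwc ?_⟩
        · rw [hconj w (hone w hwi)]; exact (hpos w).mp hwi
        · rw [Complex.conj_conj] at e; exact e.symm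
    rw [h2, mul_one]
    have hre : ∀ w ∈ (Finset.univ.image μ).filter (fun w => conj w = w), w = 1 ∨ w = -1 := fun w hw => by
      obtain ⟨hwi, hwc⟩ := Finset.mem_filter.mp hw
      refine sq_eq_one_iff.mp ?_
      have hw1 := hone w hwi
      rw [pow_two]
      nth_rw 2 [← hwc]
      rw [← Complex.inv_eq_conj (Complex.norm_eq_one_of_pow_eq_one hw1 hm),
        mul_inv_cancel₀ (fun e => by rw [e, zero_pow hm] at hw1; exact zero_ne_one hw1)]
    rw [Finset.prod_congr rfl (g := fun w => if w = -1 then (-1 : ℂ) ^ N (-1) else 1) fun w hw => by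
      rcases hre w hw with rfl | rfl
      · rw [one_pow, if_neg (by norm_num)]
      · rw [if_pos rfl], Finset.prod_ite_eq']
    split_ifs with h
    · rfl
    · have : N (-1) = 0 := by
        by_contra h0
        exact h (Finset.mem_filter.mpr ⟨(hpos _).mpr (Nat.pos_of_ne_zero h0), by simp⟩)
      simp [this]
  rw [hdet, hprod] at hD
  obtain ⟨r, hr⟩ : Even (N (-1)) := (neg_one_pow_eq_one_iff_even (by norm_num : (-1 : ℂ) ≠ 1)).mp hD
  refine ⟨r, ?_⟩
  have h := key (-1) hm2.neg_one_pow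
  rw [hr, inv_neg, inv_one] at h
  rw [h, two_mul]

end CfsgLib.OrderBlocks
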