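import Cfsg.Agent.Lib.BrauerTuan.Orders
import Cfsg.Agent.Lib.M12Order.Basic

/-!
# Averages over the sections of a Sylow subgroup of prime order

The sum of a character over `v y`, `y` a regular element of `C(P)`, is zero outside the principal block.
-/

set_option autoImplicit false
set_option linter.unusedSectionVars false
set_option linter.style.haveILetI false

namespace CfsgLib.OrderBlocks

open Cfsg
open scoped ComplexConjugate CfsgLib.Char
open CfsgLib CfsgLib.Blocks
open scoped _root_.Classical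

universe u

variable {G : Type u} [Group G] [Fintype G] {p : ℕ} [Fact p.Prime]

/-- The regular elements of `C(P)`. -/
noncomputable def regs (P : Sylow p G) : Finset G :=
  Finset.univ.filter fun y => y ∈ Subgroup.centralizer ((P : Subgroup G) : Set G) ∧ ¬ p ∣ orderOf y

theorem mem_regs {P : Sylow p G} {y : G} :
    y ∈ regs P ↔ y ∈ Subgroup.centralizer ((P : Subgroup G) : Set G) ∧ ¬ p ∣ orderOf y := by
  simp [regs]

theorem one_mem_regs (P : Sylow p G) : (1 : G) ∈ regs P :=
  mem_regs.mpr ⟨one_mem _, by rw [orderOf_one]; exact (Fact.out : p.Prime).not_dvd_one⟩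

/-- The number of regular elements of `C(P)`. -/
theorem card_regs (P : Sylow p G) (hP : Nat.card (P : Subgroup G) = p) :
    p * (regs P).card = Nat.card (Subgroup.centralizer ((P : Subgroup G) : Set G)) := by
  obtain ⟨M, hM⟩ := Blocks.exists_isPModular (Fact.out : p.Prime)
  obtain ⟨S, hS⟩ : ∃ S, S = Blocks.PrimeDefect.principalSetup hM P hP := ⟨_, rfl⟩
  have hC : S.C = Subgroup.centralizer ((P : Subgroup G) : Set G) := by rw [hS]; rfl
  rw [← hC, S.card_C]
  congr 1
  rw [Nat.card_eq_fintype_card, Fintype.card_subtype]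
  refine congrArg Finset.card ?_
  ext y
  rw [mem_regs, Finset.mem_filter, S.mem_V_iff, hC]
  simp [IsPRegular]

/-- Conjugate products in the section of `v` are conjugate by `C(v)`. -/
theorem section_conj {v y y' c : G} (hvp : ∃ k : ℕ, orderOf v = p ^ k) (hy : Commute v y)
    (hyr : ¬ p ∣ orderOf y) (hy' : Commute v y') (hyr' : ¬ p ∣ orderOf y')
    (h : c * (v * y) * c⁻¹ = v * y') : c * v * c⁻¹ = v ∧ c * y * c⁻¹ = y' := by
  have e1 := IsPPart.conj (isPPart_mul (p := p) hy hvp hyr) c
  rw [h] at e1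
  have hv : c * v * c⁻¹ = v := IsPPart.unique (Fact.out : p.Prime) e1 (isPPart_mul hy' hvp hyr')
  refine ⟨hv, mul_left_cancel (a := v) ?_⟩
  rw [← h]
  calc v * (c * y * c⁻¹) = c * v * c⁻¹ * (c * y * c⁻¹) := by rw [hv]
    _ = c * (v * y) * c⁻¹ := by group

/-- The sum of the squares of the section sums over all characters. -/
theorem sum_all_sections (P : Sylow p G) (hP : Nat.card (P : Subgroup G) = p) {v : G}
    (hv : v ∈ (P : Subgroup G)) (hv1 : v ≠ 1) :
    ∑ χ : IrrCharacter G, (∑ y ∈ regs P, (χ : G → ℂ) (v * y)) * conj (∑ y ∈ regs P, (χ : G → ℂ) (v * y)) =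
      ((regs P).card * Nat.card (Subgroup.centralizer ((P : Subgroup G) : Set G)) : ℕ) := by
  obtain ⟨M, hM⟩ := Blocks.exists_isPModular (Fact.out : p.Prime)
  obtain ⟨S, hS⟩ : ∃ S, S = Blocks.PrimeDefect.principalSetup hM P hP := ⟨_, rfl⟩
  obtain ⟨C, hCd⟩ : ∃ C, C = Subgroup.centralizer ((P : Subgroup G) : Set G) := ⟨_, rfl⟩
  have hC : S.C = C := by rw [hS, hCd]; rfl
  have hvS : v ∈ S.P := by rw [hS]; exact hv
  rw [← hCd]
  simp only [map_sum, Finset.sum_mul_sum]
  rw [Finset.sum_comm]
  have hrow : ∀ y ∈ regs P, ∀ y' ∈ regs P, ∑ χ : IrrCharacter G, (χ : G → ℂ) (v * y') * conj ((χ : G → ℂ) (v * y)) =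
      ((C : Set G).toFinset.filter fun c => c * y * c⁻¹ = y').card := by
    intro y hy y' hy'
    obtain ⟨hyC, hyr⟩ := mem_regs.mp hy
    obtain ⟨hyC', hyr'⟩ := mem_regs.mp hy'
    have hcy : Commute v y := Subgroup.mem_centralizer_iff.mp hyC v hv
    have hcy' : Commute v y' := Subgroup.mem_centralizer_iff.mp hyC' v hv
    rw [Char.column_orthogonality]
    have hmem : ∀ c, c ∈ C ↔ c * v * c⁻¹ = v := fun c => by
      rw [← hC, S.centralizer_eq hvS hv1, Subgroup.mem_centralizer_singleton_iff, mul_inv_eq_iff_eq_mul]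
    split_ifs with h
    · obtain ⟨c₀, hc₀⟩ := isConj_iff.mp h.symm
      obtain ⟨hcv, hcy0⟩ := section_conj (S.orderOf_pow hvS) hcy hyr hcy' hyr' hc₀
      rw [Nat.cast_inj, Nat.card_eq_fintype_card, Fintype.card_subtype]
      refine Finset.card_bij' (fun c _ => c₀ * c) (fun c _ => c₀⁻¹ * c) ?_ ?_ ?_ ?_
      · intro c hc
        simp only [Finset.mem_filter, Finset.mem_univ, true_and, Subgroup.mem_centralizer_singleton_iff] at hc
        obtain ⟨h1, h2⟩ := section_conj (c := c) (S.orderOf_pow hvS) hcy hyr hcy hyr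
          (mul_inv_eq_iff_eq_mul.mpr hc)
        simp only [Finset.mem_filter, Set.mem_toFinset, SetLike.mem_coe, hmem]
        exact ⟨by conv_rhs => rw [← hcv, ← h1]
                  group, by conv_rhs => rw [← hcy0, ← h2]
                            group⟩
      · intro c hc
        simp only [Finset.mem_filter, Set.mem_toFinset, SetLike.mem_coe, hmem] at hc
        simp only [Finset.mem_filter, Finset.mem_univ, true_and, Subgroup.mem_centralizer_singleton_iff]
        rw [← mul_inv_eq_iff_eq_mul]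
        have e : c * (v * y) * c⁻¹ = c₀ * (v * y) * c₀⁻¹ := by
          rw [hc₀, show c * (v * y) * c⁻¹ = (c * v * c⁻¹) * (c * y * c⁻¹) by group, hc.1, hc.2]
        calc c₀⁻¹ * c * (v * y) * (c₀⁻¹ * c)⁻¹ = c₀⁻¹ * (c * (v * y) * c⁻¹) * c₀ := by group
          _ = v * y := by rw [e]; group
      · intro c _; simp
      · intro c _; simp
    · rw [Finset.filter_eq_empty_iff.mpr fun c hc hcy0 => h ?_, Finset.card_empty, Nat.cast_zero]
      rw [Set.mem_toFinset, SetLike.mem_coe, hmem] at hc
      refine (isConj_iff.mpr ⟨c, ?_⟩).symm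
      calc c * (v * y) * c⁻¹ = (c * v * c⁻¹) * (c * y * c⁻¹) := by group
        _ = v * y' := by rw [hc, hcy0]
  rw [Finset.sum_congr rfl fun y' hy' => Finset.sum_comm]
  rw [Finset.sum_congr rfl fun y' hy' => Finset.sum_congr rfl fun y hy => hrow y hy y' hy', Finset.sum_comm]
  have hfib : ∀ y ∈ regs P, ∑ y' ∈ regs P, (((C : Set G).toFinset.filter fun c => c * y * c⁻¹ = y').card : ℂ) =
      (Nat.card C : ℂ) := by
    intro y hy
    obtain ⟨hyC, hyr⟩ := mem_regs.mp hy
    rw [← Nat.cast_sum, Nat.cast_inj, Nat.card_eq_fintype_card]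
    refine ((Finset.card_eq_sum_card_fiberwise (f := fun c => c * y * c⁻¹) (s := (C : Set G).toFinset)
      fun c hc => ?_).symm).trans ?_
    swap
    · rw [Set.toFinset_card]; rfl
    · rw [Finset.mem_coe, Set.mem_toFinset, SetLike.mem_coe] at hc
      refine Finset.mem_coe.mpr (mem_regs.mpr ⟨?_, ?_⟩)
      · rw [← hCd]
        exact mul_mem (mul_mem hc (hCd ▸ hyC)) (inv_mem hc)
      · show ¬ p ∣ orderOf (c * y * c⁻¹)
        rwa [show c * y * c⁻¹ = (MulAut.conj c).toMonoidHom y by simp,
          orderOf_injective (MulAut.conj c).toMonoidHom (MulAut.conj c).injective]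
  rw [Finset.sum_congr rfl hfib, Finset.sum_const, nsmul_eq_mul]
  push_cast
  rfl

/-- Outside the principal block the section sums vanish. -/
theorem sum_section_eq_zero [IsSimpleGroup G] (P : Sylow p G) (hP : Nat.card (P : Subgroup G) = p)
    (D : BrauerTuan.Data P) {χ : IrrCharacter G} (hX : χ ∉ D.X) (hY : χ ∉ D.Y) {v : G}
    (hv : v ∈ (P : Subgroup G)) (hv1 : v ≠ 1) : ∑ y ∈ regs P, (χ : G → ℂ) (v * y) = 0 := by
  have hp : p.Prime := Fact.out
  obtain ⟨M, hM⟩ := Blocks.exists_isPModular hp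
  haveI := Blocks.isPrime_of_isPModular hM
  obtain ⟨S, hS⟩ : ∃ S, S = Blocks.PrimeDefect.principalSetup hM P hP := ⟨_, rfl⟩
  have hT : S.T = S.N := by rw [hS]; exact Blocks.PrimeDefect.principal_T hM P hP
  have hPS : S.P = (P : Subgroup G) := by rw [hS]; rfl
  have hC : S.C = Subgroup.centralizer ((P : Subgroup G) : Set G) := by
    show Subgroup.centralizer (S.P : Set G) = _
    rw [hPS]
  have hθ : ∀ c : S.C, (S.θ : S.C → ℂ) c = 1 := by
    subst hS
    intro c
    simp [Blocks.PrimeDefect.principalSetup, Blocks.trivIrr]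
  -- the coefficient is invariant
  have hinv : ∀ ξ : IrrCharacter G, ∀ g ∈ S.N, ∀ w ∈ S.P, S.a ξ (g * w * g⁻¹) = S.a ξ w := by
    intro ξ g hg w hw
    have hgT : g ∈ S.T := hT ▸ hg
    have himg : (Finset.univ.filter fun η => η ∈ S.b) =
        (Finset.univ.filter fun η => η ∈ S.b).image (S.cj g) := by
      ext η
      simp only [Finset.mem_image, Finset.mem_filter, Finset.mem_univ, true_and]
      constructor
      · intro h
        rw [← S.image_cj_eq hgT] at h
        exact h
      · rintro ⟨η', h, rfl⟩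
        exact S.cj_mem hgT h
    simp only [Blocks.PrimeDefect.Setup.a]
    conv_lhs => rw [himg]
    rw [Finset.sum_image fun _ _ _ _ h => S.cj_injective hg h]
    exact Finset.sum_congr rfl fun η _ => by rw [S.mult_cj hg, S.scal_cj hg η hw]
  have hval : ∀ ξ ∈ S.B, ∀ w ∈ (P : Subgroup G), w ≠ 1 → ∀ y ∈ regs P, (ξ : G → ℂ) (w * y) = S.a ξ w := by
    intro ξ hξ w hw hw1 y hy
    obtain ⟨hyC, hyr⟩ := mem_regs.mp hy
    have h := S.value_section hξ (hPS ▸ hw) hw1 (y := ⟨y, hC ▸ hyC⟩)
      (by rw [IsPRegular, ← Subgroup.orderOf_coe]; exact hyr)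
    rw [Finset.sum_congr rfl (g := fun _ => S.a ξ w) fun g hg => by
      have hgN : g ∈ S.N := (Finset.mem_filter.mp hg).2
      have hyC' : g⁻¹ * y * g ∈ S.C := by
        have := (S.conj_C_iff (inv_mem hgN) y).mpr (hC ▸ hyC)
        rwa [inv_inv] at this
      rw [dif_pos hyC', hθ, mul_one]
      have := hinv ξ g⁻¹ (inv_mem hgN) w (hPS ▸ hw)
      rwa [inv_inv] at this,
      Finset.sum_const, nsmul_eq_mul, ← Fintype.card_subtype, ← Nat.card_eq_fintype_card,
      show Nat.card {g // g ∈ S.N} = Nat.card S.T by rw [hT]] at h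
    exact mul_left_cancel₀ (Nat.cast_ne_zero.mpr (Nat.card_pos (α := S.T)).ne') h
  have hk0 : 0 < (regs P).card := Finset.card_pos.mpr ⟨1, one_mem_regs P⟩
  have hblock : ∀ w ∈ (P : Subgroup G), w ≠ 1 → ∀ ξ : IrrCharacter G, ξ ∉ S.B →
      ∑ y ∈ regs P, (ξ : G → ℂ) (w * y) = 0 := by
    intro w hw hw1 ξ hξ
    have hall := sum_all_sections P hP hw hw1
    rw [← Finset.sum_filter_add_sum_filter_not Finset.univ (fun ζ => ζ ∈ S.B)] at hall
    have hwS : w ∈ S.P := hPS ▸ hw
    rw [Finset.sum_congr rfl (g := fun ζ => (((regs P).card : ℂ) * (regs P).card) *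
      (S.a ζ w * conj (S.a ζ w))) fun ζ hζ => by
        rw [Finset.sum_congr rfl fun y hy => hval ζ (Finset.mem_filter.mp hζ).2 w hw hw1 y hy,
          Finset.sum_const, nsmul_eq_mul, map_mul, map_natCast]
        ring,
      ← Finset.mul_sum, S.gram_a hwS hw1 hwS hw1] at hall
    have hstab : Nat.card {t : S.T // (t : G) * w * (t : G)⁻¹ = w} = Nat.card S.C := by
      refine Nat.card_congr
        { toFun := fun t => ⟨(t.1 : G), ?_⟩
          invFun := fun c => ⟨⟨(c : G), S.C_le_T c.2⟩, ?_⟩
          left_inv := fun t => rfl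
          right_inv := fun c => rfl }
      · rw [S.centralizer_eq hwS hw1, Subgroup.mem_centralizer_singleton_iff]
        exact mul_inv_eq_iff_eq_mul.mp t.2
      · exact mul_inv_eq_iff_eq_mul.mpr (Subgroup.mem_centralizer_iff.mp c.2 w hwS).symm
    rw [hstab, div_mul_cancel₀ _ (Nat.cast_ne_zero.mpr Nat.card_pos.ne'), ← card_regs P hP] at hall
    push_cast at hall
    have h0 : ∑ ζ ∈ Finset.univ.filter (fun ζ : IrrCharacter G => ¬ ζ ∈ S.B),
        (Complex.normSq (∑ y ∈ regs P, (ζ : G → ℂ) (w * y)) : ℝ) = 0 := by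
      refine Complex.ofReal_injective ?_
      push_cast
      simp only [← Complex.mul_conj]
      linear_combination hall
    rw [Finset.sum_eq_zero_iff_of_nonneg fun ζ _ => Complex.normSq_nonneg _] at h0
    exact Complex.normSq_eq_zero.mp (h0 ξ (Finset.mem_filter.mpr ⟨Finset.mem_univ _, hξ⟩))
  -- the block is the union
  obtain ⟨-, X', Y', -, -, hd', hmem', hXc', hYc', -, -, -, -, -, -, -⟩ := S.structure_block
  have hsub : ∀ ξ ∈ D.X ∪ D.Y, ξ ∈ S.B := by
    intro ξ hξ
    by_contra hB
    have hz : ∀ w ∈ (P : Subgroup G), w ≠ 1 → (ξ : G → ℂ) w = 0 := fun w hw hw1 => by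
      have h := hblock w hw hw1 ξ hB
      have hk : ((regs P).card : ℂ) ≠ 0 := Nat.cast_ne_zero.mpr hk0.ne'
      refine (mul_eq_zero.mp ?_).resolve_left hk
      rw [← h, ← nsmul_eq_mul, ← Finset.sum_const]
      refine Finset.sum_congr rfl fun y hy => ?_
      obtain ⟨hyC, hyr⟩ := mem_regs.mp hy
      rcases Finset.mem_union.mp hξ with hX' | hY'
      · have h1 := D.valX ξ hX' w hw hw1 1 (one_mem _) (orderOf_one (G := G) ▸ hp.not_dvd_one)
        rw [mul_one] at h1
        rw [h1, D.valX ξ hX' w hw hw1 y hyC hyr]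
      · exact (D.valY ξ hY' w hw hw1 y hyC hyr).symm
    have hdvd := BrauerTuan.dvd_degree_of_vanish (P : Subgroup G) hP hz
    rcases Finset.mem_union.mp hξ with hX' | hY'
    · have h1 := Int.modEq_iff_dvd.mp (D.degX ξ hX').symm
      have h2 : (p : ℤ) ∣ D.δ ξ := by
        simpa using dvd_sub (Int.natCast_dvd_natCast.mpr hdvd) h1
      have := Int.le_of_dvd one_pos (show (p : ℤ) ∣ 1 by
        rcases D.hδ ξ hX' with e | e <;> rw [e] at h2 <;> simpa using h2)
      have := hp.two_le
      omega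
    · have h1 := Int.modEq_iff_dvd.mp (D.degY ξ hY').symm
      have h2 : (p : ℤ) ∣ D.ε * D.e := by
        simpa using dvd_sub (Int.natCast_dvd_natCast.mpr hdvd) h1
      have h3 : p ∣ D.e := by
        rcases D.hε with e | e <;> rw [e] at h2 <;> simpa [Int.natCast_dvd_natCast] using h2
      have h4 := Nat.le_of_dvd (by have := D.two_le_e; omega) h3
      have h5 := D.het
      have h6 := Nat.le_mul_of_pos_right D.e D.one_le_t
      omega
  have heq : X' ∪ Y' = D.X ∪ D.Y := by
    refine (Finset.eq_of_subset_of_card_le (fun ξ hξ => (hmem' ξ).mp (hsub ξ hξ)) ?_).symm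
    rw [Finset.card_union_of_disjoint hd', Finset.card_union_of_disjoint D.disj, hXc', hYc', D.card_X,
      D.card_Y]
    have hSe : S.e = S.C.relIndex S.N := by rw [Blocks.PrimeDefect.Setup.e, hT]
    have hN : S.N = Subgroup.normalizer ((P : Subgroup G) : Set G) := by
      show Subgroup.normalizer (S.P : Set G) = _
      rw [hPS]
    have he : S.e = D.e := by
      have h1 := D.card_G
      rw [← Subgroup.card_mul_index (Subgroup.centralizer ((P : Subgroup G) : Set G)),
        mul_comm (D.e * _)] at h1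
      have hidx : S.C.index = D.e * (1 + D.n * p) := by
        rw [hC]
        exact Nat.eq_of_mul_eq_mul_left Nat.card_pos h1
      rw [← Subgroup.relIndex_mul_index S.C_le_N, ← hSe, hN,
        ← (show Nat.card (Sylow p G) = (Subgroup.normalizer ((P : Subgroup G) : Set G)).index from
          Sylow.card_eq_index_normalizer P), D.card_sylow] at hidx
      exact Nat.eq_of_mul_eq_mul_right (by omega) hidx
    have ht : (p - 1) / S.e = D.t := by
      rw [he, show p - 1 = D.e * D.t by have := D.het; omega,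
        Nat.mul_div_cancel_left _ (by have := D.two_le_e; omega)]
    rw [ht, he]
  refine hblock v hv hv1 χ fun hB => ?_
  have := (hmem' χ).mp hB
  rw [heq, Finset.mem_union] at this
  exact this.elim hX hY

end CfsgLib.OrderBlocks
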