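/-!
# Principal blocks of prime defect as lists: the checkers, for any order

All functions here are computable and are evaluated by the kernel.
-/

set_option autoImplicit false

namespace CfsgLib.OrderBlocks

/-- The candidate for a principal `p`-block with `|C(P)| = p k` and `|N(P) : C(P)| = e`: the signed
degrees of the non-trivial rational members, and the signed degree of the exceptional members. -/
structure Opt where
  p : Nat
  k : Nat
  e : Nat
  xs : List Int
  y : Option Int
deriving DecidableEq

/-- The number of exceptional characters. -/
def Opt.t (o : Opt) : Nat := (o.p - 1) / o.e

/-- The degrees of the non-trivial members of the block. -/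
def Opt.degs (o : Opt) : List Nat :=
  o.xs.map Int.natAbs ++ (match o.y with | none => [] | some y => List.replicate o.t y.natAbs)

/-- The sign. -/
def sgn (x : Int) : Int := if 0 < x then 1 else -1

/-- The lists of length `m` with entries in `l`, up to order. -/
def combos : List Int → Nat → List (List Int)
  | [], m => if m = 0 then [[]] else []
  | a :: l, m =>
    (List.range (m + 1)).flatMap fun j => (combos l (m - j)).map fun s => List.replicate j a ++ s

/-- The block candidates from the lists of signed degrees. -/
def optsFrom (p k e : Nat) (X Y : List Int) : List Opt :=
  if e + 1 = p then
    (combos X e).filterMap fun xs => if xs.sum = -1 then some ⟨p, k, e, xs, none⟩ else none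
  else
    (combos X (e - 1)).filterMap fun xs =>
      if Y.contains (1 + xs.sum) then some ⟨p, k, e, xs, some (1 + xs.sum)⟩ else none

/-- A bound for the absolute value of an integer whose square is at most `c`. -/
def bnd (c : Nat) : Nat :=
  if c < 256 then 15 else if c < 1024 then 31 else if c < 2304 then 47 else if c < 4096 then 63
  else if c < 8281 then 90 else if c < 16384 then 127 else if c < 40401 then 200
  else if c < 446224 then 667 else c

/-- The possible values of a character of degree `d` at an involution with centraliser of order `c`. -/
def vals (n c d : Nat) : List Int :=
  let M := min (d - 1) (bnd c)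
  ((List.range (2 * M + 1)).map fun i : Nat => (i : Int) - (M : Int)).filter fun A =>
    decide (A * A ≤ (c : Int)) && decide (((d : Int) - A) % 4 = 0) &&
      decide ((((n / c : Nat) : Int) * A) % (d : Int) = 0)

/-- The products of the lists, with weighted squares summing to at most the bound. -/
def prodW : List (Bool × List Int) → Int → List (List Int)
  | [], B => if 0 ≤ B then [[]] else []
  | V :: Vs, B => V.2.flatMap fun A =>
      if (if V.1 then A * A else 0) ≤ B then
        (prodW Vs (B - if V.1 then A * A else 0)).map fun r => A :: r
      else []

/-- The relation of the block at a value list. -/
def sigSum : List Int → List Int → Int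
  | x :: xs, A :: As => sgn x * A + sigSum xs As
  | _, _ => 1

/-- Numerator and denominator of `1 + Σ A² / x`. -/
def fracSum : List Int → List Int → Int × Int
  | x :: xs, A :: As => let r := fracSum xs As; (r.1 * x + A * A * r.2, r.2 * x)
  | _, _ => (1, 1)

/-- Numerator and denominator of the block sum of a class multiplication constant. -/
def tFrac (o : Opt) (As : List Int) (Y : Int) : Int × Int :=
  let r := fracSum o.xs As
  match o.y with
  | none => r
  | some y => (r.1 * y - Y * Y * r.2, r.2 * y)

/-- The value of the exceptional characters given by the relation. -/
def yVal (o : Opt) (As : List Int) : Int :=
  match o.y with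
  | none => 0
  | some y => sgn y * sigSum o.xs As

end CfsgLib.OrderBlocks
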