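import Cfsg.Agent.Lib.OrderBlocks.Values
import Cfsg.Agent.Lib.Char.DefectZero

/-!
# Sections and centralisers of a Sylow subgroup of prime order, for any order
-/

set_option autoImplicit false
set_option linter.unusedSectionVars false
set_option linter.style.haveILetI false

namespace CfsgLib.OrderBlocks

open Cfsg
open scoped ComplexConjugate CfsgLib.Char
open CfsgLib CfsgLib.BrauerTuan
open scoped _root_.Classical

universe u

variable {G : Type u} [Group G] [Fintype G] [IsSimpleGroup G] {n Bd : ℕ} {qs : List ℕ} {p : ℕ} [Fact p.Prime] {o : Opt}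

/-- The characters of degree divisible by `p` vanish on the `p`-singular elements. -/
theorem PBlk.vanish (B : PBlk G n qs Bd p o) {χ : IrrCharacter G} (hd : p ∣ deg χ) {x : G} (hx : p ∣ orderOf x) :
    (χ : G → ℂ) x = 0 := by
  have hdvd : p ∣ Nat.card G := B.T.card_P ▸ Subgroup.card_subgroup_dvd_card (B.T.P : Subgroup G)
  refine Char.defect_zero_vanish χ.2 (p := p) (n := 1) (d := deg χ) (value_one' χ) ?_ ?_ ?_ hx
  · rwa [pow_one]
  · rw [B.card_eq, show p ^ (1 + 1) = p * p by ring]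
    exact B.T.sq
  · rwa [pow_one]

/-- A generator of `P`. -/
theorem PBlk.exists_gen (B : PBlk G n qs Bd p o) :
    ∃ v : G, v ∈ (B.T.P : Subgroup G) ∧ v ≠ 1 ∧ orderOf v = p ∧
      Subgroup.centralizer ({v} : Set G) = Subgroup.centralizer ((B.T.P : Subgroup G) : Set G) := by
  obtain ⟨v, hv, hv1⟩ := M12Order.exists_ne_one_P B.T
  have hvo : orderOf v = p := by
    have h := orderOf_dvd_natCard (⟨v, hv⟩ : (B.T.P : Subgroup G))
    rw [B.T.card_P, Subgroup.orderOf_mk] at h
    exact ((Nat.dvd_prime Fact.out).mp h).resolve_left fun h' => hv1 (orderOf_eq_one_iff.mp h')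
  refine ⟨v, hv, hv1, hvo, ?_⟩
  have hzp : Subgroup.zpowers v = (B.T.P : Subgroup G) :=
    Subgroup.eq_of_le_of_card_ge (Subgroup.zpowers_le.mpr hv) (by rw [Nat.card_zpowers, hvo, B.T.card_P])
  ext c
  rw [Subgroup.mem_centralizer_singleton_iff]
  refine ⟨fun h => Subgroup.mem_centralizer_iff.mpr fun w hw => ?_,
    fun h => (Subgroup.mem_centralizer_iff.mp h v hv).symm⟩
  rw [← hzp] at hw
  obtain ⟨i, rfl⟩ := Subgroup.mem_zpowers_iff.mp hw
  exact ((show Commute c v from h).zpow_right i).symm.eq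

/-- An involution of `C(P)` gives congruences for the values of the block. -/
theorem PBlk.dvd_sub (B : PBlk G n qs Bd p o) (hp2 : p ≠ 2) {z : G} (hz : orderOf z = 2)
    (hzC : z ∈ Subgroup.centralizer ((B.T.P : Subgroup G) : Set G)) {χ : IrrCharacter G} (hχ : χ ∈ B.xl) :
    (p : ℤ) ∣ iv χ z - B.σ χ := by
  have hφ := Char.isCharacter_of_isIrr χ.2
  have hzz := mul_self_of_order_two hz
  have hzr : ¬ p ∣ orderOf z := by
    rw [hz]
    exact fun h => hp2 ((Nat.prime_dvd_prime_iff_eq Fact.out Nat.prime_two).mp h)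
  obtain ⟨K, hK⟩ := M12Order.exists_nat_sum_subgroup hφ (B.T.P : Subgroup G)
  rw [B.T.card_P] at hK
  obtain ⟨a, ha, -⟩ := exists_fixed_trace_sum hφ (B.T.P : Subgroup G) B.T.card_P hzz
    (Subgroup.centralizer_le_normalizer _ hzC) hK
  rw [← Finset.add_sum_erase _ _ (Finset.mem_univ (1 : (B.T.P : Subgroup G))),
    Finset.sum_congr rfl (g := fun _ => (B.σ χ : ℂ)) (fun (w : (B.T.P : Subgroup G)) hw =>
      B.sec hχ w.2 (fun e => Finset.ne_of_mem_erase hw (Subtype.ext e)) hzC hzr),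
    Finset.sum_const, Finset.card_erase_of_mem (Finset.mem_univ _), Finset.card_univ,
    ← Nat.card_eq_fintype_card, B.T.card_P, Subgroup.coe_one, one_mul, iv_spec χ hzz, nsmul_eq_mul] at ha
  have h1 : 1 ≤ p := (Fact.out : p.Prime).one_lt.le
  have h : ((iv χ z + ((p : ℤ) - 1) * B.σ χ : ℤ) : ℂ) = (((p : ℤ) * a : ℤ) : ℂ) := by
    rw [Nat.cast_sub h1, Nat.cast_one] at ha
    push_cast
    exact ha
  exact ⟨a - B.σ χ, by linear_combination Int.cast_injective (α := ℂ) h⟩

theorem cC_conj (a v : G) : cC (a * v * a⁻¹) = cC v := by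
  refine Nat.card_congr ⟨fun c => ⟨a⁻¹ * c * a, ?_⟩, fun c => ⟨a * c * a⁻¹, ?_⟩, fun c => Subtype.ext ?_,
    fun c => Subtype.ext ?_⟩
  · have h := Subgroup.mem_centralizer_singleton_iff.mp c.2
    rw [Subgroup.mem_centralizer_singleton_iff]
    calc a⁻¹ * (c : G) * a * v = a⁻¹ * ((c : G) * (a * v * a⁻¹)) * a := by group
      _ = a⁻¹ * ((a * v * a⁻¹) * (c : G)) * a := by rw [h]
      _ = v * (a⁻¹ * (c : G) * a) := by group
  · have h := Subgroup.mem_centralizer_singleton_iff.mp c.2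
    rw [Subgroup.mem_centralizer_singleton_iff]
    calc a * (c : G) * a⁻¹ * (a * v * a⁻¹) = a * ((c : G) * v) * a⁻¹ := by group
      _ = a * (v * (c : G)) * a⁻¹ := by rw [h]
      _ = a * v * a⁻¹ * (a * (c : G) * a⁻¹) := by group
  · simp [mul_assoc]
  · simp [mul_assoc]

/-- All subgroups of order `p` have conjugate centralisers. -/
theorem PBlk.cC_of_order (B : PBlk G n qs Bd p o) {w : G} (hw : orderOf w = p) :
    cC w = p * o.k := by
  obtain ⟨v, hv, -, hvo, hvC⟩ := B.exists_gen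
  have hpp : ¬ p * p ∣ Nat.card G := B.card_eq ▸ B.T.sq
  obtain ⟨S, hS⟩ : ∃ S : Sylow p G, (S : Subgroup G) = Subgroup.zpowers w := by
    have h : IsPGroup p (Subgroup.zpowers w) := IsPGroup.of_card (n := 1) (by rw [Nat.card_zpowers, hw, pow_one])
    obtain ⟨S, hS⟩ := h.exists_le_sylow
    refine ⟨S, (Subgroup.eq_of_le_of_card_ge hS ?_).symm⟩
    obtain ⟨n, hn⟩ := S.isPGroup'.exists_card_eq
    rw [Nat.card_zpowers, hw, hn]
    rcases Nat.lt_or_ge n 2 with h | h
    · exact le_trans (Nat.pow_le_pow_right (Fact.out : p.Prime).pos (Nat.le_of_lt_succ h)) (by rw [pow_one])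
    · exact absurd ((pow_dvd_pow p h).trans (hn ▸ Subgroup.card_subgroup_dvd_card _)) (by rwa [pow_two])
  obtain ⟨a, ha⟩ := MulAction.exists_smul_eq G B.T.P S
  have hmem : a * v * a⁻¹ ∈ Subgroup.zpowers w := by
    rw [← hS, ← ha, Sylow.smul_def]
    exact Subgroup.mem_map_of_mem _ hv
  have hcv : cC (a * v * a⁻¹) = p * o.k := by
    rw [cC_conj, cC, hvC, B.T.card_C]
  have hzp : Subgroup.zpowers (a * v * a⁻¹) = Subgroup.zpowers w := by
    refine Subgroup.eq_of_le_of_card_ge (Subgroup.zpowers_le.mpr hmem) ?_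
    rw [Nat.card_zpowers, Nat.card_zpowers, hw,
      show orderOf (a * v * a⁻¹) = orderOf v from (MulAut.conj a).orderOf_eq v, hvo]
  rw [← hcv, cC, cC]
  have key : ∀ x y : G, Subgroup.zpowers x = Subgroup.zpowers y →
      Subgroup.centralizer ({x} : Set G) ≤ Subgroup.centralizer ({y} : Set G) := fun x y h c hc => by
    rw [Subgroup.mem_centralizer_singleton_iff] at hc ⊢
    obtain ⟨i, rfl⟩ := Subgroup.mem_zpowers_iff.mp (h ▸ Subgroup.mem_zpowers y)
    exact (show Commute c x from hc).zpow_right i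
  rw [le_antisymm (key _ _ hzp.symm) (key _ _ hzp)]

/-- `r` dividing `|C(P) : P|` gives an element of order `r` centralised by an element of order `p`. -/
theorem exists_commuting {k r : ℕ} [Fact r.Prime] (T : OrderCtx G n p qs Bd k)
    (hr : r ∣ k) : ∃ w : G, orderOf w = r ∧ p ∣ cC w := by
  obtain ⟨w, hw⟩ := exists_prime_orderOf_dvd_card' (G := Subgroup.centralizer ((T.P : Subgroup G) : Set G)) r
    (by rw [T.card_C]; exact hr.mul_left p)
  refine ⟨(w : G), by rw [Subgroup.orderOf_coe]; exact hw, ?_⟩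
  have hle : (T.P : Subgroup G) ≤ Subgroup.centralizer ({(w : G)} : Set G) := fun v hv =>
    Subgroup.mem_centralizer_singleton_iff.mpr (Subgroup.mem_centralizer_iff.mp w.2 v hv)
  have := Subgroup.card_dvd_of_le hle
  rwa [T.card_P] at this

end CfsgLib.OrderBlocks
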