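import Cfsg.Agent.Lib.OrderBlocks.Local
import Cfsg.Agent.Lib.OrderBlocks.Average

/-!
# Involutions and the sections of a Sylow subgroup of prime order

Pairs of involutions with product in the section of an element of order `p`, and an involution of `C(P)`
fixed by an element of prime order of `N(P)`.
-/

set_option autoImplicit false
set_option linter.unusedSectionVars false
set_option linter.style.haveILetI false

namespace CfsgLib.OrderBlocks

open Cfsg
open scoped ComplexConjugate CfsgLib.Char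
open CfsgLib CfsgLib.BrauerTuan
open scoped _root_.Classical

universe u

variable {G : Type u} [Group G] [Fintype G] {p : ℕ} [Fact p.Prime]

/-- The first member of a pair of conjugate involutions with product `v y` inverts `v`. -/
theorem inverts_of_pair {g g₁ g₂ v y : G} (hgg : g * g = 1) (h1 : IsConj g g₁) (h2 : IsConj g g₂)
    (he : g₁ * g₂ = v * y) (hc : Commute v y) (hv : orderOf v = p) (hy : ¬ p ∣ orderOf y) :
    g₁ * g₁ = 1 ∧ g₁ * v * g₁ = v⁻¹ := by
  have hsq : ∀ x, IsConj g x → x * x = 1 := fun x hx => by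
    obtain ⟨c, rfl⟩ := isConj_iff.mp hx
    calc c * g * c⁻¹ * (c * g * c⁻¹) = c * (g * g) * c⁻¹ := by group
      _ = 1 := by rw [hgg]; group
  have a1 := hsq _ h1
  have a2 := hsq _ h2
  have hi : g₁⁻¹ = g₁ := inv_eq_of_mul_eq_one_right a1
  have hi2 : g₂⁻¹ = g₂ := inv_eq_of_mul_eq_one_right a2
  refine ⟨a1, ?_⟩
  obtain ⟨m, hm⟩ : ∃ m, m = orderOf y := ⟨_, rfl⟩
  have hw : g₁ * (v * y) * g₁⁻¹ = (v * y)⁻¹ := by
    rw [← he, mul_inv_rev, hi2, hi]
    calc g₁ * (g₁ * g₂) * g₁ = g₁ * g₁ * g₂ * g₁ := by simp only [mul_assoc]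
      _ = g₂ * g₁ := by rw [a1, one_mul]
  have hm' : (v * y) ^ m = v ^ m := by rw [hc.mul_pow, hm, pow_orderOf_eq_one, mul_one]
  have hvm : g₁ * v ^ m * g₁⁻¹ = (v ^ m)⁻¹ := by
    rw [← hm', ← conj_pow, hw, inv_pow]
  obtain ⟨j, hj⟩ := exists_pow_eq_self_of_coprime (x := v) (n := m) (by
    rw [hv, hm]; exact ((Nat.Prime.coprime_iff_not_dvd Fact.out).mpr hy).symm)
  rw [show g₁ * v * g₁ = g₁ * v * g₁⁻¹ by rw [hi]]
  nth_rw 1 [← hj]
  rw [← conj_pow, hvm, inv_pow, hj]

/-- An element conjugating `v` to `v⁻¹` and a power of it. -/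
theorem orderOf_of_mem {P : Subgroup G} (hP : Nat.card P = p) {v : G} (hv : v ∈ P) (hv1 : v ≠ 1) :
    orderOf v = p := by
  have h := orderOf_dvd_natCard (⟨v, hv⟩ : P)
  rw [hP, Subgroup.orderOf_mk] at h
  exact ((Nat.dvd_prime Fact.out).mp h).resolve_left fun h' => hv1 (orderOf_eq_one_iff.mp h')

theorem zpowers_of_mem {P : Subgroup G} (hP : Nat.card P = p) {v : G} (hv : v ∈ P) (hv1 : v ≠ 1) :
    Subgroup.zpowers v = P :=
  Subgroup.eq_of_le_of_card_ge (Subgroup.zpowers_le.mpr hv)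
    (by rw [Nat.card_zpowers, orderOf_of_mem hP hv hv1, hP])

theorem mem_normalizer_of_inverts {P : Subgroup G} (hP : Nat.card P = p) {v u : G} (hv : v ∈ P) (hv1 : v ≠ 1)
    (huu : u * u = 1) (hu : u * v * u = v⁻¹) :
    u ∈ Subgroup.normalizer (P : Set G) ∧ ∀ w ∈ P, u * w * u = w⁻¹ := by
  have hi : u⁻¹ = u := inv_eq_of_mul_eq_one_right huu
  have key : ∀ w ∈ P, u * w * u = w⁻¹ := fun w hw => by
    obtain ⟨i, rfl⟩ := Subgroup.mem_zpowers_iff.mp ((zpowers_of_mem hP hv hv1).symm ▸ hw)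
    calc u * v ^ i * u = u * v ^ i * u⁻¹ := by rw [hi]
      _ = (u * v * u⁻¹) ^ i := (conj_zpow).symm
      _ = (v ^ i)⁻¹ := by rw [hi, hu, inv_zpow]
  refine ⟨Subgroup.mem_normalizer_iff.mpr fun w => ⟨fun hw => ?_, fun hw => ?_⟩, key⟩
  · rw [hi, key w hw]; exact inv_mem hw
  · rw [hi] at hw
    have h := key _ hw
    rw [show u * (u * w * u) * u = (u * u) * w * (u * u) by simp only [mul_assoc], huu, one_mul, mul_one] at h
    rw [h]; exact inv_mem hw

theorem centralizer_subgroupOf_normal (P : Subgroup G) :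
    ((Subgroup.centralizer (P : Set G)).subgroupOf (Subgroup.normalizer (P : Set G))).Normal := by
  refine ⟨fun c hc m => ?_⟩
  rw [Subgroup.mem_subgroupOf] at hc ⊢
  refine Subgroup.mem_centralizer_iff.mpr fun w hw => ?_
  obtain ⟨w', hw', rfl⟩ : ∃ w', w' ∈ P ∧ (m : G) * w' * (m : G)⁻¹ = w :=
    ⟨(m : G)⁻¹ * w * m, (Subgroup.mem_normalizer_iff.mp m.2 _).mpr (by
      rw [show (m : G) * ((m : G)⁻¹ * w * m) * (m : G)⁻¹ = w by group]; exact hw), by group⟩
  have h := Subgroup.mem_centralizer_iff.mp hc w' hw'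
  push_cast
  calc (m : G) * w' * (m : G)⁻¹ * ((m : G) * (c : G) * (m : G)⁻¹)
      = (m : G) * (w' * c) * (m : G)⁻¹ := by group
    _ = (m : G) * (c * w') * (m : G)⁻¹ := by rw [h]
    _ = (m : G) * (c : G) * (m : G)⁻¹ * ((m : G) * w' * (m : G)⁻¹) := by group

variable {n Bd k : ℕ} {qs : List ℕ}

theorem card_normalizer (T : OrderCtx G n p qs Bd k) :
    Nat.card (Subgroup.normalizer ((T.P : Subgroup G) : Set G)) = T.D.e * (p * k) := by
  have h := (Subgroup.normalizer ((T.P : Subgroup G) : Set G)).card_mul_index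
  have hi0 : (Subgroup.normalizer ((T.P : Subgroup G) : Set G)).index = 1 + T.D.n * p :=
    (Sylow.card_eq_index_normalizer T.P).symm.trans T.D.card_sylow
  rw [hi0, T.D.card_G, T.card_C] at h
  exact Nat.eq_of_mul_eq_mul_right (show 0 < 1 + T.D.n * p by omega) (by rw [h]; ring)

theorem index_cent (T : OrderCtx G n p qs Bd k) :
    ((Subgroup.centralizer ((T.P : Subgroup G) : Set G)).subgroupOf
      (Subgroup.normalizer ((T.P : Subgroup G) : Set G))).index = T.D.e := by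
  have h := ((Subgroup.centralizer ((T.P : Subgroup G) : Set G)).subgroupOf
    (Subgroup.normalizer ((T.P : Subgroup G) : Set G))).card_mul_index
  rw [Nat.card_congr (Subgroup.subgroupOfEquivOfLe (Subgroup.centralizer_le_normalizer _)).toEquiv, T.card_C,
    card_normalizer T, mul_comm T.D.e] at h
  exact Nat.eq_of_mul_eq_mul_left (T.card_C ▸ Nat.card_pos) h

/-- No involution inverts `v`, if `|N(P) : C(P)|` is odd. -/
theorem not_inverted (T : OrderCtx G n p qs Bd k) (hp2 : p ≠ 2) (he : ¬ 2 ∣ T.D.e) {v : G}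
    (hv : v ∈ (T.P : Subgroup G)) (hv1 : v ≠ 1) {u : G} (huu : u * u = 1) : u * v * u ≠ v⁻¹ := by
  intro hu
  obtain ⟨huN, hall⟩ := mem_normalizer_of_inverts T.card_P hv hv1 huu hu
  haveI := centralizer_subgroupOf_normal (T.P : Subgroup G)
  have h := Subgroup.pow_index_mem ((Subgroup.centralizer ((T.P : Subgroup G) : Set G)).subgroupOf
    (Subgroup.normalizer ((T.P : Subgroup G) : Set G))) ⟨u, huN⟩
  rw [index_cent T, Subgroup.mem_subgroupOf] at h
  obtain ⟨q, hq⟩ : ∃ q, T.D.e = 2 * q + 1 := ⟨T.D.e / 2, by omega⟩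
  have hue : u ^ T.D.e = u := by
    rw [hq, pow_succ, pow_mul, pow_two, huu, one_pow, one_mul]
  push_cast at h
  rw [hue] at h
  have hc := Subgroup.mem_centralizer_iff.mp h v hv
  rw [mul_assoc, hc, ← mul_assoc, huu, one_mul] at hu
  have h2 : orderOf v ∣ 2 := orderOf_dvd_of_pow_eq_one (by
    rw [pow_two]; nth_rw 2 [hu]; exact mul_inv_cancel v)
  rw [orderOf_of_mem T.card_P hv hv1] at h2
  exact hp2 ((Nat.prime_dvd_prime_iff_eq Fact.out Nat.prime_two).mp h2)

/-- An involution of `C(P)` centralised by an element of prime order `r` of `N(P)`. -/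
theorem exists_fixed_involution (T : OrderCtx G n p qs Bd k) {r : ℕ} [Fact r.Prime] (hr : r ∣ T.D.e)
    (hk : 2 ∣ k) (hp2 : p ≠ 2) (hbig : ∀ a, 2 ^ a ∣ k → 2 ^ a < r) :
    ∃ z : G, orderOf z = 2 ∧ z ∈ Subgroup.centralizer ((T.P : Subgroup G) : Set G) ∧ r ∣ cC z ∧ p ∣ cC z := by
  haveI : Fact (Nat.Prime 2) := ⟨Nat.prime_two⟩
  obtain ⟨N, hN⟩ : ∃ N, N = Subgroup.normalizer ((T.P : Subgroup G) : Set G) := ⟨_, rfl⟩
  obtain ⟨C, hC⟩ : ∃ C, C = (Subgroup.centralizer ((T.P : Subgroup G) : Set G)).subgroupOf N := ⟨_, rfl⟩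
  haveI : C.Normal := by subst hC hN; exact centralizer_subgroupOf_normal _
  have hidx : C.index = T.D.e := by subst hC hN; exact index_cent T
  have hcard : Nat.card C = p * k := by
    subst hC hN
    rw [Nat.card_congr (Subgroup.subgroupOfEquivOfLe (Subgroup.centralizer_le_normalizer _)).toEquiv, T.card_C]
  obtain ⟨S⟩ : Nonempty (Sylow 2 C) := inferInstance
  obtain ⟨S', hS'⟩ : ∃ S', S' = (S : Subgroup C).map C.subtype := ⟨_, rfl⟩
  have hfr : Subgroup.normalizer (S' : Set N) ⊔ C = ⊤ := by rw [hS']; exact Sylow.normalizer_sup_eq_top S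
  have hdvd : r ∣ Nat.card (Subgroup.normalizer (S' : Set N)) := by
    refine (hr.trans ?_).trans (Subgroup.relIndex_dvd_card C _)
    rw [← hidx, ← Subgroup.relIndex_top_right, ← hfr, Subgroup.relIndex_sup_right]
  obtain ⟨x, hx⟩ := exists_prime_orderOf_dvd_card' (G := Subgroup.normalizer (S' : Set N)) r hdvd
  obtain ⟨a, ha⟩ := S.isPGroup'.exists_card_eq
  have hS'c : Nat.card S' = 2 ^ a := by
    rw [hS', ← ha]; exact (Nat.card_congr ((S : Subgroup C).equivMapOfInjective _ C.subtype_injective).toEquiv).symm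
  have hak : 2 ^ a ∣ k := by
    have h : 2 ^ a ∣ p * k := hcard ▸ ha ▸ Subgroup.card_subgroup_dvd_card _
    exact (((Nat.coprime_primes Nat.prime_two Fact.out).mpr (Ne.symm hp2)).pow_left a).dvd_of_dvd_mul_left h
  -- conjugation by `x` fixes `S'` pointwise
  obtain ⟨φ, hφ⟩ : ∃ φ : Subgroup.normalizer (S' : Set N) →* Equiv.Perm S',
      ∀ g w, ((φ g w : S') : N) = (g : N) * (w : N) * (g : N)⁻¹ :=
    ⟨{ toFun := fun g => (MulEquiv.toEquiv (S'.normalizerMonoidHom g))
       map_one' := Equiv.ext fun w => by simp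
       map_mul' := fun g h => Equiv.ext fun w => by simp }, fun g w => rfl⟩
  have hfix : φ x = 1 := by
    have h1 : orderOf (φ x) ∣ r := hx ▸ orderOf_map_dvd φ x
    refine orderOf_eq_one_iff.mp (((Nat.dvd_prime Fact.out).mp h1).resolve_right fun h => ?_)
    have h2 : r ∣ Nat.card (Equiv.Perm S') := h ▸ orderOf_dvd_natCard _
    rw [Nat.card_perm, hS'c] at h2
    exact absurd ((Nat.Prime.dvd_factorial Fact.out).mp h2) (Nat.not_le.mpr (hbig a hak))
  obtain ⟨w, hw⟩ := exists_prime_orderOf_dvd_card' (G := S') 2 (by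
    rw [hS'c, ← ha]
    exact S.dvd_card_of_dvd_card (hcard ▸ hk.mul_left p))
  have hwC : ((w : N) : G) ∈ Subgroup.centralizer ((T.P : Subgroup G) : Set G) := by
    have : (w : N) ∈ C := by
      have hw2 : (w : N) ∈ (S : Subgroup C).map C.subtype := le_of_eq hS' w.2
      obtain ⟨c, -, hc⟩ := Subgroup.mem_map.mp hw2
      rw [← hc]; exact c.2
    rw [hC, Subgroup.mem_subgroupOf] at this
    exact this
  have hcomm : (((x : N)) : G) * ((w : N) : G) = ((w : N) : G) * (((x : N)) : G) := by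
    have h := hφ x w
    rw [hfix] at h
    have h' := congrArg Subtype.val (mul_inv_eq_iff_eq_mul.mp h.symm)
    simpa using h'
  refine ⟨((w : N) : G), by rw [Subgroup.orderOf_coe, Subgroup.orderOf_coe]; exact hw, hwC, ?_, ?_⟩
  · have : orderOf (((x : N)) : G) = r := by rw [Subgroup.orderOf_coe, Subgroup.orderOf_coe]; exact hx
    rw [cC, ← this]
    exact Subgroup.orderOf_dvd_natCard _ (Subgroup.mem_centralizer_singleton_iff.mpr hcomm)
  · have hle : (T.P : Subgroup G) ≤ Subgroup.centralizer ({((w : N) : G)} : Set G) := fun v hv =>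
      Subgroup.mem_centralizer_singleton_iff.mpr (Subgroup.mem_centralizer_iff.mp hwC v hv)
    have h := Subgroup.card_dvd_of_le hle
    rwa [T.card_P] at h

variable [IsSimpleGroup G] {o : Opt}

/-- The bound for the values of the rational members at an involution inverting `P`. -/
theorem PBlk.inverting_bound (B : PBlk G n qs Bd p o) (hp2 : p ≠ 2) {u v : G} (huu : u * u = 1)
    (hv : v ∈ (B.T.P : Subgroup G)) (hv1 : v ≠ 1) (hu : u * v * u = v⁻¹) {χ : IrrCharacter G}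
    (hχ : χ ∈ B.xl) : ((p : ℤ) * |iv χ u|) ≤ (deg χ : ℤ) + ((p : ℤ) - 1) * B.σ χ := by
  have hp : p.Prime := Fact.out
  obtain ⟨huN, hall⟩ := mem_normalizer_of_inverts B.T.card_P hv hv1 huu hu
  have hχc := Char.isCharacter_of_isIrr χ.2
  obtain ⟨K, hK⟩ := M12Order.exists_nat_sum_subgroup hχc (B.T.P : Subgroup G)
  rw [B.T.card_P] at hK
  obtain ⟨a, ha, hab⟩ := exists_fixed_trace_sum hχc (B.T.P : Subgroup G) B.T.card_P huu huN hK
  obtain ⟨q, hq⟩ : ∃ q, p = 2 * q + 1 := ⟨p / 2, by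
    have := hp.two_le
    rcases hp.eq_two_or_odd with h | h <;> omega⟩
  rw [Finset.sum_congr rfl (g := fun _ => (χ : G → ℂ) u) fun (w : (B.T.P : Subgroup G)) _ => ?_,
    Finset.sum_const, Finset.card_univ, ← Nat.card_eq_fintype_card, B.T.card_P, iv_spec χ huu,
    nsmul_eq_mul] at ha
  swap
  · -- `w u` is conjugate to `u`
    obtain ⟨s, hs⟩ : ∃ s, s = (w : G) ^ (q + 1) := ⟨_, rfl⟩
    have hsP : s ∈ (B.T.P : Subgroup G) := hs ▸ Subgroup.pow_mem _ w.2 _
    have hss : s * s = (w : G) := by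
      have hwp : (w : G) ^ p = 1 := orderOf_dvd_iff_pow_eq_one.mp
        (by have h := Subgroup.orderOf_dvd_natCard _ w.2; rwa [B.T.card_P] at h)
      rw [hs, ← pow_add, show q + 1 + (q + 1) = p + 1 by omega, pow_succ, hwp, one_mul]
    refine Char.isClassFunction_of_isCharacter hχc |> fun hcf => ?_
    rw [show (w : G) * u = s * u * s⁻¹ by
      rw [← hall s hsP, ← hss]
      simp only [mul_assoc]
      rw [← mul_assoc u u, huu, one_mul]]
    exact hcf u s
  have hA : iv χ u = a := by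
    have hp0 : (p : ℂ) ≠ 0 := Nat.cast_ne_zero.mpr hp.ne_zero
    exact Int.cast_injective (α := ℂ) (mul_left_cancel₀ hp0 ha)
  have hKe : ((deg χ : ℤ) + ((p : ℤ) - 1) * B.σ χ : ℤ) = (p : ℤ) * K := by
    rw [← Finset.add_sum_erase _ _ (Finset.mem_univ (1 : (B.T.P : Subgroup G))),
      Finset.sum_congr rfl (g := fun _ => (B.σ χ : ℂ)) (fun (w : (B.T.P : Subgroup G)) hw =>
        B.value_P hχ w.2 (fun e => Finset.ne_of_mem_erase hw (Subtype.ext e))),
      Finset.sum_const, Finset.card_erase_of_mem (Finset.mem_univ _), Finset.card_univ,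
      ← Nat.card_eq_fintype_card, B.T.card_P, Subgroup.coe_one, value_one', nsmul_eq_mul,
      Nat.cast_sub hp.one_le, Nat.cast_one] at hK
    apply Int.cast_injective (α := ℂ)
    push_cast
    exact hK
  rw [hKe, hA]
  exact mul_le_mul_of_nonneg_left hab (Int.natCast_nonneg _)

/-- The class multiplication constants over the section of an element of order `p`, added up. -/
theorem PBlk.count_sections (B : PBlk G n qs Bd p o) {g v : G} (hv : v ∈ (B.T.P : Subgroup G)) (hv1 : v ≠ 1) (V : IrrCharacter G → ℤ)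
    (Y : ℤ) (hV : ∀ χ ∈ B.xl, (χ : G → ℂ) g = V χ) (hY : ∀ ψ ∈ B.yl, (ψ : G → ℂ) g = Y) :
    ((n * o.k : ℕ) : ℤ) * (tFrac o (B.xl.map V) Y).1 =
      ((∑ y ∈ regs B.T.P, Nat.card {pr : G × G // IsConj g pr.1 ∧ IsConj g pr.2 ∧ pr.1 * pr.2 = v * y} : ℕ) : ℤ) *
        ((cC g : ℤ) * (cC g : ℤ)) * (tFrac o (B.xl.map V) Y).2 := by
  have hr : ((regs B.T.P).card : ℕ) = o.k :=
    Nat.eq_of_mul_eq_mul_left (Fact.out : p.Prime).pos ((card_regs B.T.P B.T.card_P).trans B.T.card_C)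
  have hnum : ((∑ y ∈ regs B.T.P,
      Nat.card {pr : G × G // IsConj g pr.1 ∧ IsConj g pr.2 ∧ pr.1 * pr.2 = v * y} : ℕ) : ℂ) =
      ((Subgroup.centralizer ({g} : Set G)).index : ℂ) * ((Subgroup.centralizer ({g} : Set G)).index : ℂ) /
        (Nat.card G : ℂ) * (o.k : ℂ) * ∑ χ : IrrCharacter G, (χ : G → ℂ) g * (χ : G → ℂ) g *
          (conj (∑ y ∈ regs B.T.P, (χ : G → ℂ) (v * y)) / (o.k : ℂ)) / (χ : G → ℂ) 1 := by
    have hk0 : (o.k : ℂ) ≠ 0 :=
      Nat.cast_ne_zero.mpr (hr ▸ (Finset.card_pos.mpr ⟨1, one_mem_regs _⟩).ne')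
    rw [Nat.cast_sum, Finset.sum_congr rfl fun y _ => Char.class_mult g g (v * y), ← Finset.mul_sum,
      Finset.sum_comm, mul_assoc]
    congr 1
    rw [Finset.mul_sum]
    refine Finset.sum_congr rfl fun χ _ => ?_
    rw [← Finset.sum_div, ← Finset.mul_sum, ← map_sum]
    field_simp
  obtain ⟨f, hf⟩ : ∃ f : IrrCharacter G → ℂ, f = fun χ : IrrCharacter G =>
      (χ : G → ℂ) g * (χ : G → ℂ) g * (conj (∑ y ∈ regs B.T.P, (χ : G → ℂ) (v * y)) / (o.k : ℂ)) /
        (χ : G → ℂ) 1 := ⟨_, rfl⟩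
  have hkk : (o.k : ℂ) ≠ 0 := Nat.cast_ne_zero.mpr (hr ▸ (Finset.card_pos.mpr ⟨1, one_mem_regs _⟩).ne')
  have hsecX : ∀ χ ∈ B.xl, conj (∑ y ∈ regs B.T.P, (χ : G → ℂ) (v * y)) / (o.k : ℂ) = (B.σ χ : ℂ) :=
    fun χ hχ => by
      rw [Finset.sum_congr rfl fun y hy => B.sec hχ hv hv1 (mem_regs.mp hy).1 (mem_regs.mp hy).2,
        Finset.sum_const, hr, nsmul_eq_mul, map_mul, map_natCast, map_intCast, mul_div_cancel_left₀ _ hkk]
  have hsecY : ∀ ψ ∈ B.yl, conj (∑ y ∈ regs B.T.P, (ψ : G → ℂ) (v * y)) / (o.k : ℂ) =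
      conj ((ψ : G → ℂ) v) :=
    fun ψ hψ => by
      rw [Finset.sum_congr rfl fun y hy => B.sec_y ψ hψ v hv hv1 y (mem_regs.mp hy).1 (mem_regs.mp hy).2,
        Finset.sum_const, hr, nsmul_eq_mul, map_mul, map_natCast, mul_div_cancel_left₀ _ hkk]
  have htr : conj (∑ y ∈ regs B.T.P, ((Blocks.trivIrr G : IrrCharacter G) : G → ℂ) (v * y)) / (o.k : ℂ) = 1 := by
    simp only [Blocks.trivIrr, Finset.sum_const, hr, nsmul_eq_mul, mul_one, map_natCast, div_self hkk]
  have hSf : ∑ χ : IrrCharacter G, f χ = ((Blocks.trivIrr G :: (B.xl ++ B.yl)).map f).sum := by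
    rw [← List.sum_toFinset _ B.nodup]
    refine (Finset.sum_subset (Finset.subset_univ _) fun χ _ hχ => ?_).symm
    rw [List.mem_toFinset] at hχ
    rw [hf]
    simp only []
    rw [sum_section_eq_zero B.T.P B.T.card_P B.T.D (fun h => hχ (B.cover χ (Finset.mem_union_left _ h)))
      (fun h => hχ (B.cover χ (Finset.mem_union_right _ h))) hv hv1]
    simp
  have htriv : f (Blocks.trivIrr G) = 1 := by rw [hf]; simp only [htr]; simp [Blocks.trivIrr]
  have hne : ∀ χ ∈ B.xl, B.σ χ * (deg χ : ℤ) ≠ 0 := fun χ hχ => by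
    have := deg_pos χ
    rcases B.σ_unit hχ with e | e <;> rw [e] <;> omega
  obtain ⟨hden, hfrac⟩ := fracSum_map (fun χ => B.σ χ * (deg χ : ℤ)) V B.xl hne
  rw [← B.xs_eq] at hden hfrac
  have hX : (B.xl.map f).sum =
      (B.xl.map fun χ => (V χ : ℂ) * (V χ : ℂ) / ((B.σ χ * (deg χ : ℤ) : ℤ) : ℂ)).sum :=
    congrArg List.sum (List.map_congr_left fun χ hχ => by
      simp only [hf, hV χ hχ, hsecX χ hχ, value_one']
      push_cast
      rcases B.σ_unit hχ with e | e <;> rw [e] <;> push_cast <;> ring)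
  have hS : ∑ χ : IrrCharacter G, f χ =
      ((tFrac o (B.xl.map V) Y).1 : ℂ) / ((tFrac o (B.xl.map V) Y).2 : ℂ) ∧
      (tFrac o (B.xl.map V) Y).2 ≠ 0 := by
    rw [hSf, List.map_cons, List.sum_cons, List.map_append, List.sum_append, htriv, hX, ← add_assoc]
    cases hy : o.y with
    | none =>
      simp only [tFrac, hy, B.yl_none hy, List.map_nil, List.sum_nil, add_zero]
      exact ⟨hfrac, hden⟩
    | some y =>
      obtain ⟨hlen, hdeg, hsum⟩ := B.yl_some y hy
      obtain ⟨ψ₀, hψ₀⟩ := List.exists_mem_of_length_pos (l := B.yl) (hlen ▸ B.t_pos)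
      have hy0 : y ≠ 0 := fun h => by
        have := deg_pos ψ₀
        rw [hdeg ψ₀ hψ₀, h] at this
        simp at this
      have hYs : (B.yl.map f).sum = -((Y : ℂ) * Y) / (y : ℂ) := by
        rw [show B.yl.map f = (B.yl.map fun ψ : IrrCharacter G => conj ((ψ : G → ℂ) v)).map
            (fun w => ((Y : ℂ) * Y / (y.natAbs : ℂ)) * w) from by
          rw [List.map_map]
          refine List.map_congr_left fun ψ hψ => ?_
          simp only [Function.comp, hf, hY ψ hψ, hsecY ψ hψ, value_one', hdeg ψ hψ]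
          ring]
        rw [List.sum_map_mul_left, List.map_id']
        have hc := congrArg conj (hsum v hv hv1)
        rw [map_list_sum, List.map_map, map_neg, map_intCast] at hc
        simp only [Function.comp_def] at hc
        rw [hc]
        rcases lt_or_gt_of_ne hy0 with h | h
        · rw [sgn, if_neg (by omega), show ((y.natAbs : ℕ) : ℂ) = -(y : ℂ) by
            rw [← Int.cast_natCast, Int.ofNat_natAbs_of_nonpos h.le]; push_cast; rfl]
          push_cast
          ring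
        · rw [sgn, if_pos h, show ((y.natAbs : ℕ) : ℂ) = (y : ℂ) by
            rw [← Int.cast_natCast, Int.natAbs_of_nonneg h.le]]
          push_cast
          ring
      have hden' : ((fracSum o.xs (B.xl.map V)).2 : ℂ) ≠ 0 := Int.cast_ne_zero.mpr hden
      have hy' : (y : ℂ) ≠ 0 := Int.cast_ne_zero.mpr hy0
      simp only [tFrac, hy]
      refine ⟨?_, mul_ne_zero hden hy0⟩
      rw [hfrac, hYs]
      push_cast
      field_simp
      ring
  rw [hf] at hS
  rw [hS.1, B.card_eq] at hnum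
  have hcard : (cC g : ℂ) * ((Subgroup.centralizer ({g} : Set G)).index : ℂ) = n := by
    have h := (Subgroup.centralizer ({g} : Set G)).card_mul_index
    rw [B.card_eq] at h
    exact_mod_cast h
  have hden' : ((tFrac o (B.xl.map V) Y).2 : ℂ) ≠ 0 := Int.cast_ne_zero.mpr hS.2
  refine Int.cast_injective (α := ℂ) ?_
  have hn0 : (n : ℂ) ≠ 0 := Nat.cast_ne_zero.mpr (B.T.card_eq ▸ Nat.card_pos.ne')
  push_cast
  rw [Nat.cast_sum] at hnum
  rw [hnum]
  generalize ((Subgroup.centralizer ({g} : Set G)).index : ℂ) = i at hcard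
  field_simp
  push_cast
  linear_combination (-((tFrac o (B.xl.map V) Y).1 : ℂ) * ((n : ℂ) + (cC g : ℂ) * i)) * hcard

/-- If no pairs of conjugates of `g` have their product in the section, the block sum vanishes. -/
theorem PBlk.tFrac_eq_zero (B : PBlk G n qs Bd p o) {g v : G} (hgg : g * g = 1) (hv : v ∈ (B.T.P : Subgroup G))
    (hv1 : v ≠ 1) (hno : ∀ u, IsConj g u → u * v * u ≠ v⁻¹) (V : IrrCharacter G → ℤ) (Y : ℤ)
    (hV : ∀ χ ∈ B.xl, (χ : G → ℂ) g = V χ) (hY : ∀ ψ ∈ B.yl, (ψ : G → ℂ) g = Y) :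
    (tFrac o (B.xl.map V) Y).1 = 0 := by
  have h := B.count_sections hv hv1 V Y hV hY
  rw [Finset.sum_eq_zero fun y hy => ?_] at h
  · have hk : o.k ≠ 0 := fun e => by
      exact Nat.card_pos.ne' (B.T.card_C.trans (mul_eq_zero_of_right _ e))
    have hn : n ≠ 0 := fun e => Nat.card_pos.ne' (B.T.card_eq.trans e)
    rw [Nat.cast_zero, zero_mul, zero_mul, mul_eq_zero] at h
    exact h.resolve_left (by exact_mod_cast Nat.mul_ne_zero hn hk)
  · obtain ⟨hyC, hyr⟩ := mem_regs.mp hy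
    rw [Nat.card_eq_zero]
    left
    refine ⟨fun ⟨pr, h1, h2, h3⟩ => hno pr.1 h1 ?_⟩
    exact (inverts_of_pair hgg h1 h2 h3 (Subgroup.mem_centralizer_iff.mp hyC v hv)
      (orderOf_of_mem B.T.card_P hv hv1) hyr).2

/-- For `|N(P) : C(P)|` odd the block sum vanishes at every involution. -/
theorem PBlk.tFrac_eq_zero_of_odd (B : PBlk G n qs Bd p o) (hp2 : p ≠ 2) (he : ¬ 2 ∣ o.e) {g : G}
    (hgg : g * g = 1) (V : IrrCharacter G → ℤ) (Y : ℤ)
    (hV : ∀ χ ∈ B.xl, (χ : G → ℂ) g = V χ) (hY : ∀ ψ ∈ B.yl, (ψ : G → ℂ) g = Y) :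
    (tFrac o (B.xl.map V) Y).1 = 0 := by
  obtain ⟨v, hv, hv1⟩ := M12Order.exists_ne_one_P B.T
  refine B.tFrac_eq_zero hgg hv hv1 (fun u hu => not_inverted B.T hp2 (B.e_eq ▸ he) hv hv1 ?_) V Y hV hY
  obtain ⟨c, rfl⟩ := isConj_iff.mp hu
  calc c * g * c⁻¹ * (c * g * c⁻¹) = c * (g * g) * c⁻¹ := by group
    _ = 1 := by rw [hgg]; group

end CfsgLib.OrderBlocks
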