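import Cfsg.Agent.Lib.OrderBlocks.Block
import Cfsg.Agent.Lib.Char.DefectZero
import Cfsg.Agent.Lib.M12Order.Basic

/-!
# The values of a principal block of prime defect, for any order
-/

set_option autoImplicit false
set_option linter.unusedSectionVars false
set_option linter.style.haveILetI false

namespace CfsgLib.OrderBlocks

open Cfsg
open scoped ComplexConjugate CfsgLib.Char
open CfsgLib CfsgLib.BrauerTuan
open scoped _root_.Classical

universe u

/-- Membership in a weighted product. -/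
theorem mem_prodW {β : Type*} (f : β → Bool × List ℤ) (g : β → ℤ) :
    ∀ (xs : List β) (B : ℤ), (∀ b ∈ xs, g b ∈ (f b).2) →
      ((xs.map fun b => if (f b).1 then g b * g b else 0).sum ≤ B) → xs.map g ∈ prodW (xs.map f) B
  | [], B, _, hB => by
    have hB' : (0 : ℤ) ≤ B := by simpa using hB
    simp [prodW, hB']
  | b :: xs, B, h, hB => by
    rw [List.map_cons, List.sum_cons] at hB
    have hnn : 0 ≤ (xs.map fun b => if (f b).1 then g b * g b else 0).sum := List.sum_nonneg fun x hx => by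
      obtain ⟨c, -, rfl⟩ := List.mem_map.mp hx
      split_ifs
      · exact mul_self_nonneg _
      · exact le_refl _
    simp only [List.map_cons, prodW, List.mem_flatMap]
    refine ⟨g b, h b List.mem_cons_self, ?_⟩
    rw [if_pos (by omega), List.mem_map]
    exact ⟨_, mem_prodW f g xs _ (fun c hc => h c (List.mem_cons_of_mem _ hc)) (by omega), rfl⟩

theorem sum_map_ite {β : Type*} (P : β → Bool) (f : β → ℤ) :
    ∀ l : List β, (l.map fun a => if P a then f a else 0).sum = ((l.filter P).map f).sum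
  | [] => rfl
  | a :: l => by
    rw [List.map_cons, List.sum_cons, sum_map_ite P f l, List.filter_cons]
    split_ifs <;> simp

theorem bnd_spec {c : ℕ} {A : ℤ} (h : A * A ≤ (c : ℤ)) : A.natAbs ≤ bnd c := by
  have h' : A.natAbs * A.natAbs ≤ c := by
    have e : ((A.natAbs : ℤ) * (A.natAbs : ℤ)) = A * A := Int.natAbs_mul_self' A
    exact_mod_cast e ▸ h
  unfold bnd
  by_contra hh
  split_ifs at hh with h1 h2 h3 h4 h5 h6 h7 h8 <;>
    · have := Nat.mul_le_mul (Nat.not_le.mp hh) (Nat.not_le.mp hh)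
      have := Nat.le_mul_self A.natAbs
      omega

theorem sigSum_map {β : Type*} (f g : β → ℤ) :
    ∀ l : List β, sigSum (l.map f) (l.map g) = 1 + (l.map fun a => sgn (f a) * g a).sum
  | [] => by simp [sigSum]
  | a :: l => by
    simp only [List.map_cons, List.sum_cons, sigSum, sigSum_map f g l]
    ring

theorem fracSum_map {β : Type*} (f g : β → ℤ) :
    ∀ l : List β, (∀ a ∈ l, f a ≠ 0) → (fracSum (l.map f) (l.map g)).2 ≠ 0 ∧
      1 + (l.map fun a => (g a : ℂ) * (g a : ℂ) / (f a : ℂ)).sum =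
        ((fracSum (l.map f) (l.map g)).1 : ℂ) / ((fracSum (l.map f) (l.map g)).2 : ℂ)
  | [], _ => by simp [fracSum]
  | a :: l, h => by
    obtain ⟨h2, h1⟩ := fracSum_map f g l fun b hb => h b (List.mem_cons_of_mem _ hb)
    have ha := h a List.mem_cons_self
    simp only [List.map_cons, List.sum_cons, fracSum]
    refine ⟨mul_ne_zero h2 ha, ?_⟩
    have h2' : ((fracSum (l.map f) (l.map g)).2 : ℂ) ≠ 0 := Int.cast_ne_zero.mpr h2
    have ha' : (f a : ℂ) ≠ 0 := Int.cast_ne_zero.mpr ha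
    rw [show ∀ x y : ℂ, (1 : ℂ) + (x + y) = x + (1 + y) from fun x y => by ring, h1]
    push_cast
    field_simp
    ring

variable {G : Type u} [Group G] [Fintype G]

/-- The integer value of a character. -/
noncomputable def iv (χ : IrrCharacter G) (g : G) : ℤ :=
  if h : ∃ a : ℤ, (χ : G → ℂ) g = a then h.choose else 0

theorem iv_spec_of_int {χ : IrrCharacter G} {g : G} (h : ∃ a : ℤ, (χ : G → ℂ) g = a) :
    (χ : G → ℂ) g = iv χ g := by
  rw [iv, dif_pos h]
  exact h.choose_spec

theorem iv_eq {χ : IrrCharacter G} {g : G} {a : ℤ} (h : (χ : G → ℂ) g = a) : iv χ g = a :=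
  Int.cast_injective (α := ℂ) ((iv_spec_of_int ⟨a, h⟩).symm.trans h)

theorem iv_spec (χ : IrrCharacter G) {g : G} (hg : g * g = 1) : (χ : G → ℂ) g = iv χ g :=
  iv_spec_of_int (exists_int_of_involution (Char.isCharacter_of_isIrr χ.2) hg)

theorem iv_triv (g : G) : iv (Blocks.trivIrr G) g = 1 := iv_eq (by simp [Blocks.trivIrr])

theorem mul_self_of_order_two {g : G} (hg : orderOf g = 2) : g * g = 1 := by
  rw [← pow_two, ← hg, pow_orderOf_eq_one]

theorem ne_one_of_order_two {g : G} (hg : orderOf g = 2) : g ≠ 1 := fun h => by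
  rw [h, orderOf_one] at hg; omega

/-- The order of a centraliser. -/
noncomputable def cC (g : G) : ℕ := Nat.card (Subgroup.centralizer ({g} : Set G))

theorem cC_pos (g : G) : 0 < cC g := Nat.card_pos

theorem cC_dvd {n : ℕ} (hn : Nat.card G = n) (g : G) : cC g ∣ n := hn ▸ Subgroup.card_subgroup_dvd_card _

theorem index_eq {n : ℕ} (hn : Nat.card G = n) (g : G) :
    (Subgroup.centralizer ({g} : Set G)).index = n / cC g := by
  have h := (Subgroup.centralizer ({g} : Set G)).card_mul_index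
  rw [hn] at h
  rw [cC, ← h, Nat.mul_div_cancel_left _ Nat.card_pos]

/-- The squares of the values of distinct characters are at most the order of the centraliser. -/
theorem sum_sq_le {l : List (IrrCharacter G)} (hl : l.Nodup) {g : G}
    (hv : ∀ χ ∈ l, (χ : G → ℂ) g = iv χ g) : (l.map fun χ => iv χ g * iv χ g).sum ≤ (cC g : ℤ) := by
  have h := M12Order.column_bound_one l.toFinset g (fun χ => iv χ g) fun χ hχ => hv χ (List.mem_toFinset.mp hχ)
  rw [List.sum_toFinset _ hl] at h
  simpa only [pow_two, cC] using h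

variable [IsSimpleGroup G]

/-- The value of a non-trivial character at an involution is one of the possible values. -/
theorem iv_mem_vals {n : ℕ} (hn : Nat.card G = n) (hcomm : ¬ IsMulCommutative G) {χ : IrrCharacter G}
    (hne : χ ≠ Blocks.trivIrr G) {g : G} (hg : orderOf g = 2) : iv χ g ∈ vals n (cC g) (deg χ) := by
  have hgg := mul_self_of_order_two hg
  have hA := iv_spec χ hgg
  have hsq := sum_sq_le (l := [χ]) (List.nodup_singleton χ) (g := g) fun ξ hξ => by
    rw [List.mem_singleton] at hξ; subst hξ; exact hA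
  simp only [List.map_cons, List.map_nil, List.sum_cons, List.sum_nil, add_zero] at hsq
  obtain ⟨b1, b2⟩ := UThreeUnique.norm_bound hA
  obtain ⟨n1, n2⟩ := UThreeUnique.value_ne hcomm hne (ne_one_of_order_two hg) hA
  obtain ⟨j, hj⟩ := involution_value_mod_four hcomm (Char.isCharacter_of_isIrr χ.2) hgg
    (BrauerReynolds.value_one χ)
  rw [hA] at hj
  have hj' := Int.cast_injective hj
  have hω := Int.emod_eq_zero_of_dvd (M12Order.omega_dvd hA)
  rw [index_eq hn] at hω
  have hdeg : charDegree (χ : G → ℂ) = deg χ := rfl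
  rw [hdeg] at b1 b2 n1 n2 hj' hω
  have hbd := bnd_spec hsq
  simp only [vals, List.mem_filter, Bool.and_eq_true, decide_eq_true_eq, List.mem_map, List.mem_range]
  refine ⟨⟨(iv χ g + (min (deg χ - 1) (bnd (cC g)) : ℕ)).toNat, ?_, ?_⟩, ⟨hsq, by omega⟩, hω⟩ <;> omega

variable {n Bd : ℕ} {qs : List ℕ} {p : ℕ} [Fact p.Prime] {o : Opt}

theorem PBlk.card_eq (B : PBlk G n qs Bd p o) : Nat.card G = n := B.T.card_eq

theorem PBlk.ne_triv (B : PBlk G n qs Bd p o) {χ : IrrCharacter G} (hχ : χ ∈ B.xl ++ B.yl) :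
    χ ≠ Blocks.trivIrr G := fun h => (List.nodup_cons.mp B.nodup).1 (h ▸ hχ)

theorem PBlk.t_pos (B : PBlk G n qs Bd p o) : 0 < o.t := by
  have het := B.T.D.het
  have h1 := B.T.D.one_le_t
  rw [Opt.t, B.p_eq, ← B.e_eq, show p - 1 = B.T.D.e * B.T.D.t by omega,
    Nat.mul_div_cancel_left _ (by have := B.T.D.two_le_e; omega)]
  omega

/-- The sign of a member of the block. -/
noncomputable def PBlk.σ (B : PBlk G n qs Bd p o) : IrrCharacter G → ℤ := B.xs_map.choose

theorem PBlk.σ_unit (B : PBlk G n qs Bd p o) {χ : IrrCharacter G} (hχ : χ ∈ B.xl) : B.σ χ = 1 ∨ B.σ χ = -1 :=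
  B.xs_map.choose_spec.1 χ hχ

theorem PBlk.xs_eq (B : PBlk G n qs Bd p o) : o.xs = B.xl.map fun χ => B.σ χ * (deg χ : ℤ) :=
  B.xs_map.choose_spec.2.1

theorem PBlk.sec (B : PBlk G n qs Bd p o) {χ : IrrCharacter G} (hχ : χ ∈ B.xl) {v y : G}
    (hv : v ∈ (B.T.P : Subgroup G)) (hv1 : v ≠ 1)
    (hy : y ∈ Subgroup.centralizer ((B.T.P : Subgroup G) : Set G)) (hyr : ¬ p ∣ orderOf y) :
    (χ : G → ℂ) (v * y) = B.σ χ :=
  B.xs_map.choose_spec.2.2.1 χ hχ v hv hv1 y hy hyr

theorem PBlk.value_P (B : PBlk G n qs Bd p o) {χ : IrrCharacter G} (hχ : χ ∈ B.xl) {v : G}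
    (hv : v ∈ (B.T.P : Subgroup G)) (hv1 : v ≠ 1) : (χ : G → ℂ) v = B.σ χ := by
  have h := B.sec hχ hv hv1 (one_mem _) M12Order.not_dvd_order_one
  rwa [mul_one] at h

theorem PBlk.sgn_eq (B : PBlk G n qs Bd p o) {χ : IrrCharacter G} (hχ : χ ∈ B.xl) :
    sgn (B.σ χ * (deg χ : ℤ)) = B.σ χ ∧ (B.σ χ * (deg χ : ℤ)).natAbs = deg χ :=
  sgn_mul (B.σ_unit hχ) (deg_pos χ)

/-- The relation of the block, at an element with integer values. -/
theorem PBlk.rel_iv (B : PBlk G n qs Bd p o) {g : G} (hg : ¬ p ∣ orderOf g)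
    (hv : ∀ χ ∈ B.xl ++ B.yl, (χ : G → ℂ) g = iv χ g) :
    (o.y = none → sigSum o.xs (B.xl.map (iv · g)) = 0) ∧
      (∀ y, o.y = some y → ∀ ψ ∈ B.yl, iv ψ g = yVal o (B.xl.map (iv · g))) := by
  have hs : sigSum o.xs (B.xl.map (iv · g)) = 1 + (B.xl.map fun χ => B.σ χ * iv χ g).sum := by
    rw [B.xs_eq, sigSum_map]
    exact congrArg (1 + ·) (congrArg List.sum (List.map_congr_left fun χ hχ => by rw [(B.sgn_eq hχ).1]))
  have hsum : (B.xl.map fun χ : IrrCharacter G => (B.σ χ : ℂ) * (χ : G → ℂ) g).sum =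
      (((B.xl.map fun χ => B.σ χ * iv χ g).sum : ℤ) : ℂ) := by
    rw [Int.cast_list_sum, List.map_map]
    exact congrArg List.sum (List.map_congr_left fun χ hχ => by
      simp [Function.comp, hv χ (List.mem_append_left _ hχ)])
  refine ⟨fun h => ?_, fun y h ψ hψ => ?_⟩
  · have h1 := B.xs_map.choose_spec.2.2.2.1 h g hg
    change (1 : ℂ) + (B.xl.map fun χ : IrrCharacter G => (B.σ χ : ℂ) * (χ : G → ℂ) g).sum = 0 at h1
    rw [hsum, ← Int.cast_one (R := ℂ), ← Int.cast_add, ← hs, Int.cast_eq_zero] at h1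
    exact h1
  · have h1 := B.xs_map.choose_spec.2.2.2.2 y h ψ hψ g hg
    change (sgn y : ℂ) * (ψ : G → ℂ) g =
      1 + (B.xl.map fun χ : IrrCharacter G => (B.σ χ : ℂ) * (χ : G → ℂ) g).sum at h1
    rw [hv ψ (List.mem_append_right _ hψ), hsum] at h1
    have h2 : sgn y * iv ψ g = sigSum o.xs (B.xl.map (iv · g)) := by
      rw [hs]
      exact Int.cast_injective (α := ℂ) (by rw [Int.cast_add, Int.cast_one, Int.cast_mul]; exact h1)
    simp only [yVal, h]
    rw [← h2, ← mul_assoc]
    unfold sgn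
    split_ifs <;> ring

section Full

variable (B : PBlk G n qs Bd p o) (hk : o.k = 1)

include hk in
/-- `C(P) = P`. -/
theorem PBlk.cent : Subgroup.centralizer ((B.T.P : Subgroup G) : Set G) = (B.T.P : Subgroup G) := by
  refine (Subgroup.eq_of_le_of_card_ge ?_ ?_).symm
  · haveI : IsCyclic (B.T.P : Subgroup G) := isCyclic_of_prime_card B.T.card_P
    exact fun a ha => Subgroup.mem_centralizer_iff.mpr fun c hc =>
      congrArg Subtype.val ((IsCyclic.commGroup (α := (B.T.P : Subgroup G))).mul_comm ⟨c, hc⟩ ⟨a, ha⟩)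
  · rw [B.T.card_C, B.T.card_P, hk, mul_one]

include hk in
theorem PBlk.out {χ : IrrCharacter G} (hχ : χ ∉ Blocks.trivIrr G :: (B.xl ++ B.yl)) {v : G}
    (hv : v ∈ (B.T.P : Subgroup G)) (hv1 : v ≠ 1) : (χ : G → ℂ) v = 0 :=
  B.T.D.out (B.cent hk) χ (fun h => hχ (B.cover χ (Finset.mem_union_left _ h)))
    (fun h => hχ (B.cover χ (Finset.mem_union_right _ h))) v hv hv1

include hk in
/-- The characters outside the block of full defect have degree divisible by `p`. -/
theorem PBlk.dvd_deg {χ : IrrCharacter G} (hχ : χ ∉ Blocks.trivIrr G :: (B.xl ++ B.yl)) : p ∣ deg χ := by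
  obtain ⟨K, hK⟩ := M12Order.exists_nat_sum_subgroup (Char.isCharacter_of_isIrr χ.2) (B.T.P : Subgroup G)
  rw [B.T.card_P, ← Finset.add_sum_erase _ _ (Finset.mem_univ (1 : (B.T.P : Subgroup G))),
    Finset.sum_eq_zero fun w hw => B.out hk hχ w.2 fun e => Finset.ne_of_mem_erase hw (Subtype.ext e),
    add_zero, Subgroup.coe_one, value_one'] at hK
  exact ⟨K, by exact_mod_cast hK⟩

include hk in
theorem PBlk.mem_of_not_dvd {χ : IrrCharacter G} (hne : χ ≠ Blocks.trivIrr G) (hd : ¬ p ∣ deg χ) :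
    χ ∈ B.xl ++ B.yl :=
  (List.mem_cons.mp (by_contra fun h => hd (B.dvd_deg hk h))).resolve_left hne

include hk in
/-- The number of pairs of conjugates of an involution with product of order `p` is `0` or `p`. -/
theorem PBlk.pairs_card (hp2 : p ≠ 2) {g v : G} (hg : orderOf g = 2) (hv : v ∈ (B.T.P : Subgroup G))
    (hv1 : v ≠ 1) :
    Nat.card {pr : G × G // IsConj g pr.1 ∧ IsConj g pr.2 ∧ pr.1 * pr.2 = v} = 0 ∨
      (Nat.card {pr : G × G // IsConj g pr.1 ∧ IsConj g pr.2 ∧ pr.1 * pr.2 = v} = p ∧ 2 ∣ o.e) := by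
  by_cases hne : Nonempty {pr : G × G // IsConj g pr.1 ∧ IsConj g pr.2 ∧ pr.1 * pr.2 = v}
  · right
    have hodd : ¬ 2 ∣ p := fun h => hp2 ((Nat.prime_dvd_prime_iff_eq Nat.prime_two Fact.out).mp h).symm
    obtain ⟨hc, u, hu2, huN, hcl⟩ :=
      pairs_of_nonempty B.T.card_P (B.cent hk) hodd (mul_self_of_order_two hg) hv hv1 hne
    refine ⟨hc, ?_⟩
    by_contra he
    have hcardN : Nat.card (Subgroup.normalizer ((B.T.P : Subgroup G) : Set G)) = o.e * p := by
      have h := (Subgroup.normalizer ((B.T.P : Subgroup G) : Set G)).card_mul_index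
      have hi0 : (Subgroup.normalizer ((B.T.P : Subgroup G) : Set G)).index = 1 + B.T.D.n * p :=
        (Sylow.card_eq_index_normalizer B.T.P).symm.trans B.T.D.card_sylow
      rw [hi0, B.T.D.card_G, B.cent hk, B.T.card_P, B.e_eq] at h
      refine Nat.eq_of_mul_eq_mul_right (show 0 < 1 + B.T.D.n * p by omega) ?_
      rw [h]; ring
    have hu1 : u = 1 := by
      have h1 : orderOf u ∣ 2 := orderOf_dvd_of_pow_eq_one (by rw [pow_two, hu2])
      have h2 : orderOf u ∣ o.e * p := hcardN ▸ Subgroup.orderOf_dvd_natCard _ huN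
      refine orderOf_eq_one_iff.mp ((Nat.dvd_prime Nat.prime_two).mp h1 |>.resolve_right fun h => ?_)
      rw [h] at h2
      exact (Nat.prime_two.dvd_mul.mp h2).elim he hodd
    obtain ⟨χ, hχ⟩ : ∃ χ : IrrCharacter G, χ ≠ Blocks.trivIrr G := by
      obtain ⟨χ, hχ⟩ : ∃ χ, χ ∈ B.xl ++ B.yl := by
        refine List.exists_mem_of_length_pos ?_
        rw [← List.length_map (f := deg), B.degs_eq, Opt.degs, List.length_append, List.length_map, B.xs_eq,
          List.length_map]
        cases hy : o.y with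
        | none =>
          have hlen : (Blocks.trivIrr G :: (B.xl ++ B.yl)).toFinset.card ≥ (B.T.D.X ∪ B.T.D.Y).card :=
            Finset.card_le_card fun χ hχ => List.mem_toFinset.mpr (B.cover χ hχ)
          rw [List.toFinset_card_of_nodup B.nodup, Finset.card_union_of_disjoint B.T.D.disj, B.T.D.card_X,
            B.T.D.card_Y, List.length_cons, List.length_append, B.yl_none hy, List.length_nil] at hlen
          have := B.T.D.two_le_e
          have := B.T.D.one_le_t
          omega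
        | some y =>
          have := B.t_pos
          simp [List.length_replicate, this]
      exact ⟨χ, B.ne_triv hχ⟩
    have h := (hcl _ (Char.isCharacter_of_isIrr χ.2)).1
    rw [hu1] at h
    exact ne_one_of_order_two hg (BrauerReynolds.faithful_of_simple hχ h)
  · left
    rw [not_nonempty_iff] at hne
    exact Nat.card_of_isEmpty

include hk in
/-- An element of order `p` of `P` is inverted by an involution, if `|N(P) : P|` is even. -/
theorem PBlk.exists_inverting (hp2 : p ≠ 2) (he : 2 ∣ o.e) {v : G} (hv : v ∈ (B.T.P : Subgroup G))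
    (hv1 : v ≠ 1) :
    ∃ u : G, orderOf u = 2 ∧
      Nat.card {pr : G × G // IsConj u pr.1 ∧ IsConj u pr.2 ∧ pr.1 * pr.2 = v} = p := by
  haveI : Fact (Nat.Prime 2) := ⟨Nat.prime_two⟩
  have hp : p.Prime := Fact.out
  have hodd : ¬ 2 ∣ p := fun h => hp2 ((Nat.prime_dvd_prime_iff_eq Nat.prime_two hp).mp h).symm
  obtain ⟨N, hN⟩ : ∃ N, N = Subgroup.normalizer ((B.T.P : Subgroup G) : Set G) := ⟨_, rfl⟩
  have hcardN : Nat.card N = o.e * p := by
    have h := N.card_mul_index
    have hi0 : (Subgroup.normalizer ((B.T.P : Subgroup G) : Set G)).index = 1 + B.T.D.n * p :=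
      (Sylow.card_eq_index_normalizer B.T.P).symm.trans B.T.D.card_sylow
    rw [hN, hi0, B.T.D.card_G, B.cent hk, B.T.card_P, B.e_eq] at h
    rw [hN]
    refine Nat.eq_of_mul_eq_mul_right (show 0 < 1 + B.T.D.n * p by omega) ?_
    rw [h]; ring
  obtain ⟨u', hu'⟩ := exists_prime_orderOf_dvd_card' (G := N) 2 (by rw [hcardN]; exact he.mul_right p)
  obtain ⟨u, hudef⟩ : ∃ u, u = (u' : G) := ⟨_, rfl⟩
  have huo : orderOf u = 2 := by rw [hudef, Subgroup.orderOf_coe]; exact hu'
  have huN : u ∈ Subgroup.normalizer ((B.T.P : Subgroup G) : Set G) := by rw [hudef, ← hN]; exact u'.2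
  have huu := mul_self_of_order_two huo
  have hinv : u⁻¹ = u := inv_eq_of_mul_eq_one_right huu
  haveI : IsCyclic (B.T.P : Subgroup G) := isCyclic_of_prime_card B.T.card_P
  have hcomm : ∀ a b : G, a ∈ (B.T.P : Subgroup G) → b ∈ (B.T.P : Subgroup G) → a * b = b * a :=
    fun a b ha hb => congrArg Subtype.val
      ((IsCyclic.commGroup (α := (B.T.P : Subgroup G))).mul_comm ⟨a, ha⟩ ⟨b, hb⟩)
  have hinvert : ∀ w ∈ (B.T.P : Subgroup G), u * w * u = w⁻¹ := by
    intro w hw
    have hc : u * w * u⁻¹ ∈ (B.T.P : Subgroup G) := (Subgroup.mem_normalizer_iff.mp huN w).mp hw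
    obtain ⟨z, hz⟩ : ∃ z, z = w * (u * w * u⁻¹) := ⟨_, rfl⟩
    have hzP : z ∈ (B.T.P : Subgroup G) := hz ▸ mul_mem hw hc
    have hfix : u * z = z * u := by
      have h1 : u * z * u⁻¹ = (u * w * u⁻¹) * w := by
        rw [hz, hinv]
        simp only [mul_assoc, huu, mul_one]
      rw [hcomm _ _ hc hw, ← hz] at h1
      exact mul_inv_eq_iff_eq_mul.mp h1
    have hz1 : z = 1 := by
      by_contra hz1
      have hzp : Subgroup.zpowers z = (B.T.P : Subgroup G) := by
        refine Subgroup.eq_of_le_of_card_ge (Subgroup.zpowers_le.mpr hzP) ?_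
        rw [Nat.card_zpowers, B.T.card_P]
        have h := orderOf_dvd_natCard (⟨z, hzP⟩ : (B.T.P : Subgroup G))
        rw [B.T.card_P, Subgroup.orderOf_mk] at h
        exact (((Nat.dvd_prime hp).mp h).resolve_left fun h' => hz1 (orderOf_eq_one_iff.mp h')).ge
      have huC : u ∈ Subgroup.centralizer ((B.T.P : Subgroup G) : Set G) := by
        refine Subgroup.mem_centralizer_iff.mpr fun q hq => ?_
        rw [← hzp] at hq
        obtain ⟨i, rfl⟩ := Subgroup.mem_zpowers_iff.mp hq
        exact ((show Commute u z from hfix).zpow_right i).symm.eq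
      rw [B.cent hk] at huC
      have h := orderOf_dvd_natCard (⟨u, huC⟩ : (B.T.P : Subgroup G))
      rw [B.T.card_P, Subgroup.orderOf_mk, huo] at h
      exact hodd h
    rw [hz, hinv] at hz1
    exact (inv_eq_of_mul_eq_one_right hz1).symm
  refine ⟨u, huo, ?_⟩
  obtain ⟨q, hq⟩ : ∃ q, p = 2 * q + 1 := ⟨p / 2, by omega⟩
  obtain ⟨s, hs⟩ : ∃ s, s = v ^ q := ⟨_, rfl⟩
  have hsP : s ∈ (B.T.P : Subgroup G) := hs ▸ Subgroup.pow_mem _ hv q
  have hvp : v ^ p = 1 := by
    have h := orderOf_dvd_natCard (⟨v, hv⟩ : (B.T.P : Subgroup G))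
    rw [B.T.card_P, Subgroup.orderOf_mk] at h
    exact orderOf_dvd_iff_pow_eq_one.mp h
  have hss : s * s = v⁻¹ := by
    refine (inv_eq_of_mul_eq_one_right ?_).symm
    rw [hs, ← pow_add, ← pow_succ', show q + q + 1 = p by omega, hvp]
  refine (pairs_of_nonempty B.T.card_P (B.cent hk) hodd huu hv hv1
    ⟨⟨(u, u * v), IsConj.refl u, isConj_iff.mpr ⟨s, ?_⟩, ?_⟩⟩).1
  · show s * u * s⁻¹ = u * v
    have h1 := hinvert s hsP
    calc s * u * s⁻¹ = s * u * (u * s * u) := by rw [h1]
      _ = s * s * u := by simp only [mul_assoc]; rw [← mul_assoc u u, huu, one_mul]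
      _ = u * v := by
        rw [hss, ← hinvert v hv]
        simp only [mul_assoc, huu, mul_one]
  · show u * (u * v) = v
    rw [← mul_assoc, huu, one_mul]

end Full

end CfsgLib.OrderBlocks
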